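import Cfsg.Agent.M22Cent.Main

/-!
# The group is Fi₂₂ and the conjugates of the involution are its transpositions
-/

set_option autoImplicit false

open Cfsg
open Cfsg.Agent.ThreeTrans

universe u

namespace Cfsg.Agent.M22Cent

attribute [local instance] finite_X

/-- The conclusion. -/
theorem exists_iso {G : Type u} [Group G] [Finite G] (d : G) (hd : orderOf d = 2)
    (hq : Cfsg.IsQuasisimple (Subgroup.centralizer ({d} : Set G)))
    [((Subgroup.zpowers d).subgroupOf (Subgroup.centralizer ({d} : Set G))).Normal]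
    (K : Type) [Field K] [Fintype K] (hK : Fintype.card K = 4)
    (e : (Subgroup.centralizer ({d} : Set G)) ⧸
      (Subgroup.zpowers d).subgroupOf (Subgroup.centralizer ({d} : Set G)) ≃* Cfsg.PSU 6 K 2)
    (hnwc : ∃ g : G, g * d * g⁻¹ ∈ Subgroup.centralizer ({d} : Set G) ∧ g * d * g⁻¹ ≠ d) :
    ∃ f : X ≃* G, f '' T = conjugatesOf d := by
  have hL := exists_loc d hd hq K hK e hnwc
  obtain ⟨φ, hφ, hT⟩ := hL.exists_embed (mem_conjugatesOf_self : d ∈ conjugatesOf d)
  refine ⟨MulEquiv.ofBijective φ ⟨hφ, MonoidHom.range_eq_top.1 (range_eq_top hL hφ hT)⟩, ?_⟩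
  rw [FischerTypes.class_of_map]
  have hdt : IsConj d (φ FischerTypes.F22.t) := hT _ mem_conjugatesOf_self
  ext y
  simp only [MulEquiv.ofBijective_apply, conjugatesOf, Set.mem_ofPred_eq]
  exact ⟨fun h => hdt.trans h, fun h => hdt.symm.trans h⟩

/-- Transport of a class of 3-transpositions. -/
theorem class_transfer {A B : Type*} [Group A] [Group B] (f : A ≃* B) {E : Set A}
    (h : IsThreeTranspositionClass E) : IsThreeTranspositionClass (f '' E) := by
  obtain ⟨⟨h1, h2⟩, ⟨a, ha, rfl⟩, h3⟩ := h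
  refine ⟨⟨?_, ?_⟩, ⟨f a, ⟨a, ha, rfl⟩, FischerTypes.class_of_map f a⟩, ?_⟩
  · rintro _ ⟨x, hx, rfl⟩
    rw [MulEquiv.orderOf_eq]; exact h1 x hx
  · rintro _ ⟨x, hx, rfl⟩ _ ⟨y, hy, rfl⟩
    rcases h2 x hx y hy with e | e
    · exact Or.inl (by rw [← map_mul, ← map_pow, e, map_one])
    · exact Or.inr (by rw [← map_mul, ← map_pow, e, map_one])
  · rw [show f '' conjugatesOf a = f.toMonoidHom '' conjugatesOf a from rfl, ← MonoidHom.map_closure, h3,
      Subgroup.map_top_of_surjective _ f.surjective]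

end Cfsg.Agent.M22Cent
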