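import Cfsg.Agent.M22Cent.ClassLift
import Cfsg.Agent.S5454
import Cfsg.Agent.ThreeTrans.SixChain.Model

/-!
# The conjugates of an involution whose centraliser is a double cover of U₆(2)
-/

set_option autoImplicit false

open Cfsg Cfsg.Agent.Classical Cfsg.Agent.Classical.Herm Module
open Cfsg.Agent.ThreeTrans
open scoped commutatorElement

namespace Cfsg.Agent.M22Cent

variable {G : Type*} [Group G]

/-- What is known of a class of involutions from the centraliser of a member. -/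
structure Loc (D : Set G) : Prop where
  sq : ∀ a ∈ D, a * a = 1
  ne : ∀ a ∈ D, a ≠ 1
  conj : ∀ g : G, ∀ a ∈ D, g * a * g⁻¹ ∈ D
  trans : ∀ a ∈ D, ∀ b ∈ D, ∃ g : G, g * a * g⁻¹ = b
  model : ∃ (F : Type) (_ : Field F) (θ : F →+* F), Nat.card F = 4 ∧ UModel.Space (hermB 6 θ) ∧
    ∀ a ∈ D, ∃ tp : UModel.Pt (hermB 6 θ) → G, UModel.Model (hermB 6 θ) (dperp D a) tp
  cen : ∀ a ∈ D, Subgroup.centralizer ({a} : Set G) = Subgroup.closure (dperp D a)
  rigid : ∀ a ∈ D, ∀ c : G, Commute c a → (∀ e ∈ dperp D a, Commute c e) → c = 1 ∨ c = a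

/-- The parametrisation of the lifts of one class. -/
theorem model_of_class {V : Type*} {F : Type*} [Field F] [AddCommGroup V] [Module F V] {θ : F →+* F}
    {B : V →ₛₗ[θ] V →ₗ[F] F} {C X : Type*} [Group C] [Group X] [Finite C]
    {hB : UModel.Space B} {ξ : C →* X} {π : suG B →* X} {z : C} (hS : UModel.Setup hB ξ π z)
    {x : V → C} (hx : UModel.Cls hB ξ π x) :
    UModel.Model B (Set.range fun v : UModel.Pt B => x v.1) fun v => x v.1 := by
  have hsq : ∀ v, x v * x v = 1 := fun v => hx.sq hS v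
  have hconj : ∀ u v : UModel.Pt B, x u.1 * x v.1 * x u.1 = x (v.1 + B u.1 v.1 • u.1) := by
    intro u v
    have h := hx.conj (x u.1) (UModel.tr hB u) v.1 (by rw [hx.map, UModel.trv_pt hB u])
    rwa [inv_eq_of_mul_eq_one_left (hsq u.1), UModel.tr_apply] at h
  have hpt : ∀ u v : UModel.Pt B, ∃ w : UModel.Pt B, w.1 = v.1 + B u.1 v.1 • u.1 := fun u v => by
    obtain ⟨w, hw⟩ := UModel.exists_image hB (UModel.tr hB u) v
    exact ⟨w, by rw [hw, UModel.tr_apply]⟩
  have heq : ∀ v w : UModel.Pt B, x v.1 = x w.1 ↔ ∃ k : F, w.1 = k • v.1 := by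
    intro v w
    constructor
    · intro e
      have e' := congrArg ξ e
      rw [hx.map, hx.map, UModel.trv_pt hB v, UModel.trv_pt hB w] at e'
      exact (UModel.tr_eq_iff hB v w).1 (hS.tr_inj v w e')
    · rintro ⟨k, hk⟩
      rw [hk, hx.smul k _ fun h => w.2.1 (by rw [hk, h, zero_smul])]
  have hcomm : ∀ v w : UModel.Pt B, Commute (x v.1) (x w.1) ↔ B v.1 w.1 = 0 := by
    intro v w
    refine ⟨fun h => ?_, fun h => hx.comm hS h⟩
    by_contra hne
    obtain ⟨u, hu⟩ := hpt v w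
    have e : x w.1 = x u.1 := by
      rw [hu, ← hconj, h.eq, mul_assoc, hsq, mul_one]
    obtain ⟨k, hk⟩ := (heq w u).1 e
    rw [hu] at hk
    have h1 := congrArg (B v.1) hk
    simp [v.2.2] at h1
    have hk1 : k = 1 := mul_right_cancel₀ hne (h1.symm.trans (one_mul _).symm)
    rw [hk1, one_smul] at hk
    exact (smul_ne_zero hne v.2.1) (add_eq_left.1 hk)
  refine ⟨⟨⟨?_, ?_⟩, ?_⟩, rfl, heq, hcomm, fun v w u hu => by rw [hu]; exact hconj v w⟩
  · rintro _ ⟨v, rfl⟩
    refine orderOf_eq_prime (by rw [sq]; exact hsq v.1) fun h1 => ?_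
    have e' := congrArg ξ h1
    rw [map_one, hx.map, UModel.trv_pt hB v] at e'
    have h2 : UModel.tr hB v = 1 := by
      obtain ⟨h3, h4⟩ := hS.ker _ e'
      rwa [pow_succ, sq, UModel.tr_sq hB v, one_mul] at h4
    obtain ⟨y, hy⟩ := UModel.exists_pair hB v.2.1
    have h5 := congrArg (fun g : suG B => g.1 y) h2
    rw [UModel.tr_apply] at h5
    change y + _ = y at h5
    rw [add_eq_left, UModel.symm_one hB hy, one_smul] at h5
    exact v.2.1 h5
  · rintro _ ⟨v, rfl⟩ _ ⟨w, rfl⟩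
    show (x v.1 * x w.1) ^ 2 = 1 ∨ (x v.1 * x w.1) ^ 3 = 1
    by_cases h : Commute (x v.1) (x w.1)
    · exact Or.inl (by rw [h.mul_pow, sq, sq, hsq, hsq, one_mul])
    · have hne : B v.1 w.1 ≠ 0 := fun e => h ((hcomm v w).2 e)
      obtain ⟨u, hu⟩ := hpt v w
      obtain ⟨u', hu'⟩ := hpt w v
      have hb : x v.1 * x w.1 * x v.1 = x w.1 * x v.1 * x w.1 := by
        rw [hconj, hconj, ← hu, ← hu', heq]
        refine ⟨(B v.1 w.1)⁻¹, ?_⟩
        have h2 : B w.1 v.1 = θ (B v.1 w.1) := (hB.herm.symm _ _).symm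
        have h3 : θ (B v.1 w.1) = (B v.1 w.1)⁻¹ :=
          eq_inv_of_mul_eq_one_right (UModel.norm_one hB hne)
        rw [hu, hu', h2, h3, smul_add, smul_smul, inv_mul_cancel₀ hne, one_smul, add_comm]
      refine Or.inr ?_
      calc (x v.1 * x w.1) ^ 3 = x v.1 * x w.1 * x v.1 * (x w.1 * x v.1 * x w.1) := by
            simp only [pow_succ, pow_zero, one_mul, mul_assoc]
        _ = x v.1 * x w.1 * x v.1 * (x v.1 * x w.1 * x v.1) := by rw [hb]
        _ = 1 := by
          rw [show x v.1 * x w.1 * x v.1 * (x v.1 * x w.1 * x v.1) =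
            x v.1 * (x w.1 * (x v.1 * x v.1) * x w.1) * x v.1 by simp only [mul_assoc],
            hsq, mul_one, hsq, mul_one, hsq]
  · rintro _ ⟨v, rfl⟩ _ ⟨w, rfl⟩
    obtain ⟨u, hu⟩ := hpt v w
    exact ⟨u, (congrArg x hu).trans (hconj v w).symm⟩

/-- An injective homomorphism carries a model to one. -/
theorem model_map {F V : Type*} [Field F] [AddCommGroup V] [Module F V] {θ : F →+* F}
    {B : V →ₛₗ[θ] V →ₗ[F] F} {K L : Type*} [Group K] [Group L] {E : Set K} {tp : UModel.Pt B → K}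
    (hM : UModel.Model B E tp) (φ : K →* L) (hφ : Function.Injective φ) :
    UModel.Model B (φ '' E) fun v => φ (tp v) := by
  refine ⟨⟨⟨?_, ?_⟩, ?_⟩, ?_, fun v w => hφ.eq_iff.trans (hM.eq_iff v w), fun v w => ?_,
    fun v w u hu => ?_⟩
  · rintro _ ⟨a, ha, rfl⟩
    rw [orderOf_injective φ hφ]; exact hM.closed.tri.1 a ha
  · rintro _ ⟨a, ha, rfl⟩ _ ⟨b, hb, rfl⟩
    rw [← map_mul φ a b, ← map_pow, ← map_pow, map_eq_one_iff φ hφ, map_eq_one_iff φ hφ]
    exact hM.closed.tri.2 a ha b hb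
  · rintro _ ⟨a, ha, rfl⟩ _ ⟨b, hb, rfl⟩
    exact ⟨a * b * a, hM.closed.conj a ha b hb, by simp⟩
  · rw [hM.range_eq]; exact (Set.range_comp _ _).symm
  · rw [← hM.comm_iff]
    refine ⟨fun h => hφ ?_, fun h => h.map φ⟩
    rw [map_mul, map_mul]; exact h.eq
  · rw [← map_mul, ← map_mul, hM.conj v w u hu]

/-- In a central extension, commutators lie in a subgroup mapping onto the quotient. -/
theorem commutator_le_of_map_top {C X : Type*} [Group C] [Group X] {ξ : C →* X} (hcov : Lift.Cov ξ)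
    (L : Subgroup C) (htop : L.map ξ = ⊤) : commutator C ≤ L := by
  rw [commutator_def, Subgroup.commutator_le]
  intro p _ q _
  have hall : ∀ g : C, ∃ l ∈ L, ∃ k, (∀ y, Commute k y) ∧ g = l * k := by
    intro g
    obtain ⟨l, hl, hlg⟩ : ξ g ∈ L.map ξ := htop ▸ Subgroup.mem_top _
    obtain ⟨k, hk, hg⟩ := Lift.exists_ker hcov hlg.symm
    exact ⟨l, hl, k, fun y => hcov.comm k hk y, hg⟩
  obtain ⟨l, hl, k, c1, rfl⟩ := hall p
  obtain ⟨l', hl', k', c2, rfl⟩ := hall q
  have e1 : ⁅l * k, l' * k'⁆ = ⁅l, l'⁆ := by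
    have f1 : ⁅l * k, l' * k'⁆ = ⁅l, l' * k'⁆ := by
      rw [commutatorElement_def, commutatorElement_def]
      calc l * k * (l' * k') * (l * k)⁻¹ * (l' * k')⁻¹
          = l * (k * (l' * k') * k⁻¹) * l⁻¹ * (l' * k')⁻¹ := by group
        _ = _ := by rw [(c1 (l' * k')).eq, mul_inv_cancel_right]
    rw [f1, commutatorElement_def, commutatorElement_def]
    calc l * (l' * k') * l⁻¹ * (l' * k')⁻¹ = l * l' * (k' * l⁻¹ * k'⁻¹) * l'⁻¹ := by group
      _ = _ := by rw [(c2 l⁻¹).eq, mul_inv_cancel_right]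
  rw [e1, commutatorElement_def]
  exact mul_mem (mul_mem (mul_mem hl hl') (inv_mem hl)) (inv_mem hl')

/-- The centraliser of a conjugate. -/
theorem centralizer_conj_eq (g d : G) : Subgroup.centralizer ({g * d * g⁻¹} : Set G) =
    (Subgroup.centralizer ({d} : Set G)).map (MulAut.conj g).toMonoidHom := by
  ext y
  rw [Subgroup.mem_centralizer_singleton_iff]
  constructor
  · intro h
    refine ⟨g⁻¹ * y * g, Subgroup.mem_centralizer_singleton_iff.2 ?_, by simp [mul_assoc]⟩
    calc g⁻¹ * y * g * d = g⁻¹ * (y * (g * d * g⁻¹)) * g := by group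
      _ = d * (g⁻¹ * y * g) := by rw [h]; group
  · rintro ⟨u, hu, rfl⟩
    exact ((Commute.conj_iff g).2 (Subgroup.mem_centralizer_singleton_iff.1 hu : Commute u d)).eq

variable [Finite G]

/-- The class of an involution with quasisimple centraliser a double cover of PSU(6, 2), not weakly
closed in it, has these properties. -/
theorem exists_loc (d : G) (hd : orderOf d = 2)
    (hq : Cfsg.IsQuasisimple (Subgroup.centralizer ({d} : Set G)))
    [hzn : ((Subgroup.zpowers d).subgroupOf (Subgroup.centralizer ({d} : Set G))).Normal]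
    (K : Type) [Field K] [Fintype K] (hK : Fintype.card K = 4)
    (e : (Subgroup.centralizer ({d} : Set G)) ⧸
      (Subgroup.zpowers d).subgroupOf (Subgroup.centralizer ({d} : Set G)) ≃* Cfsg.PSU 6 K 2)
    (hnwc : ∃ g : G, g * d * g⁻¹ ∈ Subgroup.centralizer ({d} : Set G) ∧ g * d * g⁻¹ ≠ d) :
    Loc (conjugatesOf d) := by
  classical
  obtain ⟨θ, hB, π, hsurj, hker, hcen⟩ := psu_proj_center hK e
  have hF : Nat.card K = 4 := by rw [Nat.card_eq_fintype_card, hK]
  have hd2 : d * d = 1 := by rw [← sq, ← hd]; exact pow_orderOf_eq_one d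
  have hd1 : d ≠ 1 := fun h => by rw [h, orderOf_one] at hd; omega
  set C := Subgroup.centralizer ({d} : Set G)
  let z : C := ⟨d, Subgroup.mem_centralizer_singleton_iff.2 rfl⟩
  set Nd := (Subgroup.zpowers d).subgroupOf C
  set ξ := QuotientGroup.mk' Nd with hξ
  have hcov := cov_centralizer d hd
  have hS : UModel.Setup hB ξ π z :=
    ⟨hF, hcov, hsurj, hker, hcen,
      (QuotientGroup.eq_one_iff _).2 (Subgroup.mem_subgroupOf.2 (Subgroup.mem_zpowers d)),
      fun h => hd1 (congrArg Subtype.val h), fun c hc => by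
        rcases eq_one_or_eq_d d hd hc with h | h
        · exact Or.inl (Subtype.ext h)
        · exact Or.inr (Subtype.ext h)⟩
  have hperf : commutator C = ⊤ := hq.1.commutator_eq_top
  have hX : ¬ 2 ^ 16 ∣ Nat.card (C ⧸ Nd) := by
    rw [Nat.card_congr e.toEquiv, card_psu_six hK]
    norm_num
  have hnsq := (lift_conclusion d hd fun q hq' =>
    UModel.lift_involution hB hcov π hsurj (fun g hg => (hker g hg).2) hF hq').2
  obtain ⟨S⟩ : Nonempty (Sylow 2 C) := inferInstance
  obtain ⟨f, hJ, -⟩ := UModel.thompson_cover hS S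
  obtain ⟨-, -, h22, -⟩ := Cfsg.Agent.S5454.result d hd hq K hK e hnwc S
    ((Cfsg.thompsonSubgroupOf 2 (S : Subgroup C)).map C.subtype) rfl
  set P : C → Prop := fun c => IsConj d (c : G) with hPdef
  have hPc : {c | c ∈ UModel.preRad ξ π f ∧ P c}.ncard = 22 := by
    rw [← Set.ncard_image_of_injective _ C.subtype_injective, ← h22, hJ]
    congr 1
    ext y
    constructor
    · rintro ⟨c, ⟨hc, hPc⟩, rfl⟩
      exact ⟨⟨c, hc, rfl⟩, hPc⟩
    · rintro ⟨⟨c, hc, rfl⟩, hy⟩
      exact ⟨c, ⟨hc, hy⟩, rfl⟩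
  obtain ⟨x, hx, hxP, hmem⟩ := exists_class hS hperf hX f P
    (fun h c hc => hc.trans (isConj_iff.2 ⟨h, by simp⟩))
    (fun u hu => hnsq (by
      obtain ⟨g, hg⟩ := isConj_iff.1 hu
      refine ⟨g⁻¹ * u * g, ?_⟩
      rw [sq, show g⁻¹ * (u : G) * g * (g⁻¹ * u * g) = g⁻¹ * ((u * u : C) : G) * g by simp [mul_assoc],
        ← hg]
      group)) hPc
  have hsqD : ∀ a ∈ conjugatesOf d, a * a = 1 := by
    intro a ha
    obtain ⟨g, rfl⟩ := isConj_iff.1 ha
    rw [show g * d * g⁻¹ * (g * d * g⁻¹) = g * (d * d) * g⁻¹ by group, hd2]; group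
  have hneD : ∀ a ∈ conjugatesOf d, a ≠ 1 := by
    intro a ha h1
    obtain ⟨g, rfl⟩ := isConj_iff.1 ha
    exact hd1 (conj_eq_one_iff.1 h1)
  have hconjD : ∀ g : G, ∀ a ∈ conjugatesOf d, g * a * g⁻¹ ∈ conjugatesOf d := fun g a ha =>
    ha.trans (isConj_iff.2 ⟨g, rfl⟩)
  have hM := model_of_class hS hx
  have hne : ∀ v : UModel.Pt (hermB 6 θ), x v.1 ≠ z := fun v h => by
    have h1 := congrArg ξ h
    rw [hS.z_map, hx.map, UModel.trv_pt hB v] at h1
    have h3 := (hS.ker _ h1).2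
    rw [pow_succ, sq, UModel.tr_sq hB v, one_mul] at h3
    obtain ⟨y, hy⟩ := UModel.exists_pair hB v.2.1
    have h5 := congrArg (fun g : suG (hermB 6 θ) => g.1 y) h3
    rw [UModel.tr_apply] at h5
    change y + _ = y at h5
    rw [add_eq_left, UModel.symm_one hB hy, one_smul] at h5
    exact v.2.1 h5
  have hrange : dperp (conjugatesOf d) d = Set.range fun v : UModel.Pt (hermB 6 θ) => ((x v.1 : C) : G) := by
    ext a
    constructor
    · rintro ⟨ha, had, hca⟩
      let c : C := ⟨a, Subgroup.mem_centralizer_singleton_iff.2 hca.symm.eq⟩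
      obtain ⟨v, hv⟩ := hmem c (Subtype.ext (hsqD a ha)) ha fun h => had (congrArg Subtype.val h)
      exact ⟨v, congrArg Subtype.val hv.symm⟩
    · rintro ⟨v, rfl⟩
      exact ⟨hxP v, fun h => hne v (Subtype.ext h),
        (Subgroup.mem_centralizer_singleton_iff.1 (x v.1).2).symm⟩
  set tp : UModel.Pt (hermB 6 θ) → G := fun v => ((x v.1 : C) : G)
  have hMd : UModel.Model (hermB 6 θ) (dperp (conjugatesOf d) d) tp := by
    rw [hrange, show (Set.range fun v : UModel.Pt (hermB 6 θ) => ((x v.1 : C) : G)) =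
      C.subtype '' Set.range fun v : UModel.Pt (hermB 6 θ) => x v.1 from Set.range_comp _ _]
    exact model_map hM C.subtype C.subtype_injective
  -- the centre and the group generated
  have hsimp : IsSimpleGroup (C ⧸ Nd) := (MulEquiv.isSimpleGroup_congr e).2
    (Cfsg.Agent.S0283.result (by rw [hK]; norm_num : Fintype.card K = 2 ^ 2) 6 (by norm_num) (by norm_num))
  obtain ⟨v₁, v₂, hv₁₂⟩ : ∃ v₁ v₂ : UModel.Pt (hermB 6 θ), hermB 6 θ v₁.1 v₂.1 ≠ 0 := by
    obtain ⟨a, ha, haa, -⟩ := UModel.exists_iso hB (0 : Fin 6 → K) 0 0 0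
    obtain ⟨g, hgg, hag⟩ := Herm.exists_hyp_partner hB.herm ha haa
    exact ⟨⟨a, ha, haa⟩, ⟨g, fun h => by rw [h, map_zero] at hag; exact zero_ne_one hag, hgg⟩,
      by show hermB 6 θ a g ≠ 0; rw [hag]; exact one_ne_zero⟩
  have hnc : ¬ Commute (ξ (x v₁.1)) (ξ (x v₂.1)) := by
    intro h
    rw [hx.map, hx.map, UModel.trv_pt hB v₁, UModel.trv_pt hB v₂] at h
    obtain ⟨u, hu, hu'⟩ := UModel.exists_tmove hB v₁ v₂
    have e1 : π (UModel.tr hB u) = π (UModel.tr hB v₂) := by
      rw [← hu', map_mul, map_mul, h.eq, mul_assoc, ← map_mul π, UModel.tr_sq hB v₁, map_one, mul_one]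
    rw [hS.tr_inj u v₂ e1] at hu'
    refine hv₁₂ ((UModel.tr_commute_iff hB v₁ v₂).1 ?_)
    calc UModel.tr hB v₁ * UModel.tr hB v₂
        = UModel.tr hB v₁ * UModel.tr hB v₂ * UModel.tr hB v₁ * UModel.tr hB v₁ := by
          rw [mul_assoc _ (UModel.tr hB v₁), UModel.tr_sq hB v₁, mul_one]
      _ = UModel.tr hB v₂ * UModel.tr hB v₁ := by rw [hu']
  have hcenter : ∀ c ∈ Subgroup.center C, (c : G) = 1 ∨ (c : G) = d := by
    intro c hc
    refine eq_one_or_eq_d d hd ?_
    rcases (Subgroup.Normal.map (inferInstance : (Subgroup.center C).Normal) ξ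
      (QuotientGroup.mk'_surjective _)).eq_bot_or_eq_top with h | h
    · exact Subgroup.mem_bot.1 (h ▸ Subgroup.mem_map_of_mem ξ hc)
    · exfalso
      obtain ⟨c', hc', hc''⟩ : ξ (x v₁.1) ∈ (Subgroup.center C).map ξ := h ▸ Subgroup.mem_top _
      refine hnc ?_
      rw [← hc'']
      exact Commute.map (Subgroup.mem_center_iff.1 hc' _).symm ξ
  have hclos : Subgroup.closure (dperp (conjugatesOf d) d) = C := by
    have hle : Subgroup.closure (dperp (conjugatesOf d) d) ≤ C := by
      rw [Subgroup.closure_le]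
      exact fun a ha => Subgroup.mem_centralizer_singleton_iff.2 ha.2.2.symm.eq
    refine le_antisymm hle ?_
    set L : Subgroup C := (Subgroup.closure (dperp (conjugatesOf d) d)).subgroupOf C
    have hmove : ∀ g ∈ C, ∀ a ∈ dperp (conjugatesOf d) d, g * a * g⁻¹ ∈ dperp (conjugatesOf d) d := by
      rintro g hg a ⟨ha, had, hca⟩
      have hgd : g * d * g⁻¹ = d := by
        rw [Subgroup.mem_centralizer_singleton_iff.1 hg, mul_inv_cancel_right]
      refine ⟨hconjD g a ha, fun h => had ?_, ?_⟩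
      · calc a = g⁻¹ * (g * a * g⁻¹) * g := by group
          _ = g⁻¹ * (g * d * g⁻¹) * g := by rw [h, hgd]
          _ = d := by group
      · rw [← hgd]; exact (Commute.conj_iff g).2 hca
    have hLn : L.Normal := by
      refine ⟨fun u hu g => ?_⟩
      rw [Subgroup.mem_subgroupOf] at hu ⊢
      have key : ∀ y ∈ Subgroup.closure (dperp (conjugatesOf d) d),
          (g : G) * y * (g : G)⁻¹ ∈ Subgroup.closure (dperp (conjugatesOf d) d) := by
        intro y hy
        induction hy using Subgroup.closure_induction with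
        | mem y hy => exact Subgroup.subset_closure (hmove g g.2 y hy)
        | one => simp
        | mul a b _ _ ha hb =>
          rw [show (g : G) * (a * b) * (g : G)⁻¹ = (g * a * (g : G)⁻¹) * (g * b * (g : G)⁻¹) by group]
          exact mul_mem ha hb
        | inv a _ ha =>
          rw [show (g : G) * a⁻¹ * (g : G)⁻¹ = (g * a * (g : G)⁻¹)⁻¹ by group]
          exact inv_mem ha
      simpa using key u hu
    have hxL : x v₁.1 ∈ L := Subgroup.mem_subgroupOf.2 (Subgroup.subset_closure (UModel.tp_mem hMd v₁))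
    have htop : L.map ξ = ⊤ := by
      refine ((hLn.map ξ (QuotientGroup.mk'_surjective _)).eq_bot_or_eq_top).resolve_left fun h => hnc ?_
      have h1 : ξ (x v₁.1) ∈ L.map ξ := Subgroup.mem_map_of_mem ξ hxL
      rw [h, Subgroup.mem_bot] at h1
      rw [h1]
      exact Commute.one_left _
    have hcom := commutator_le_of_map_top hcov L htop
    intro g hg
    have h1 : (⟨g, hg⟩ : C) ∈ L := hcom (by rw [hperf]; trivial)
    exact Subgroup.mem_subgroupOf.1 h1
  have hrigd : ∀ c : G, Commute c d → (∀ e ∈ dperp (conjugatesOf d) d, Commute c e) → c = 1 ∨ c = d := by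
    intro c hc hall
    refine hcenter ⟨c, Subgroup.mem_centralizer_singleton_iff.2 hc.eq⟩
      (Subgroup.mem_center_iff.2 fun y => Subtype.ext ?_)
    have hy : (y : G) ∈ Subgroup.closure (dperp (conjugatesOf d) d) := by rw [hclos]; exact y.2
    show (y : G) * c = c * y
    have hle : Subgroup.closure (dperp (conjugatesOf d) d) ≤ Subgroup.centralizer ({c} : Set G) := by
      rw [Subgroup.closure_le]
      exact fun a ha => Subgroup.mem_centralizer_singleton_iff.2 (hall a ha).symm.eq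
    exact Subgroup.mem_centralizer_singleton_iff.1 (hle hy)
  -- transport from `d`
  have hdperp : ∀ g : G, dperp (conjugatesOf d) (g * d * g⁻¹) =
      (fun y => g * y * g⁻¹) '' dperp (conjugatesOf d) d := by
    intro g
    ext y
    constructor
    · rintro ⟨hy, hne, hcy⟩
      refine ⟨g⁻¹ * y * g, ⟨by simpa using hconjD g⁻¹ y hy, fun h => hne ?_, ?_⟩, by group⟩
      · rw [← h]; group
      · rw [show d = g⁻¹ * (g * d * g⁻¹) * g by group]
        simpa using (Commute.conj_iff g⁻¹).2 hcy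
    · rintro ⟨u, ⟨hu, hud, hcu⟩, rfl⟩
      exact ⟨hconjD g u hu, fun h => hud (by simpa using h), (Commute.conj_iff g).2 hcu⟩
  refine ⟨hsqD, hneD, hconjD, fun a ha b hb => ?_, ⟨K, inferInstance, θ, hF, hB, fun a ha => ?_⟩,
    fun a ha => ?_, fun a ha c hca hall => ?_⟩
  · exact isConj_iff.1 ((show IsConj d a from ha).symm.trans hb)
  all_goals obtain ⟨g, rfl⟩ := isConj_iff.1 ha
  · refine ⟨fun v => g * tp v * g⁻¹, ?_⟩
    rw [hdperp g]
    exact model_map hMd (MulAut.conj g).toMonoidHom (MulAut.conj g).injective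
  · rw [hdperp g, show Subgroup.closure ((fun y => g * y * g⁻¹) '' dperp (conjugatesOf d) d) =
      (Subgroup.closure (dperp (conjugatesOf d) d)).map (MulAut.conj g).toMonoidHom from
      ((MulAut.conj g).toMonoidHom.map_closure _).symm, hclos]
    exact centralizer_conj_eq g d
  · have h1 := hrigd (g⁻¹ * c * g) (by
      rw [show d = g⁻¹ * (g * d * g⁻¹) * g by group]
      simpa using (Commute.conj_iff g⁻¹).2 hca) fun u hu => by
      have := (Commute.conj_iff g⁻¹).2 (hall (g * u * g⁻¹) (hdperp g ▸ Set.mem_image_of_mem _ hu))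
      simpa [mul_assoc] using this
    rcases h1 with h | h
    · exact Or.inl (by rw [show c = g * (g⁻¹ * c * g) * g⁻¹ by group, h]; group)
    · exact Or.inr (by rw [show c = g * (g⁻¹ * c * g) * g⁻¹ by group, h])

end Cfsg.Agent.M22Cent
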