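import Cfsg.Agent.ThreeTrans.SixChain.Check

/-!
# In every case but three, three of the generated points lie on a line
-/

set_option autoImplicit false
set_option maxRecDepth 100000

open Cfsg.Agent.ThreeTrans.SixChain

namespace Cfsg.Agent.M22Cent

/-- The positions of three collinear points and the two coefficients. -/
structure Tri where
  i : ℕ
  j : ℕ
  k : ℕ
  p : Q4
  r : Q4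

/-- The certificates. -/
def tris : List Tri := [
  ⟨3, 4, 101, .w, .w⟩,
  ⟨38, 39, 105, .i, .w⟩,
  ⟨0, 4, 125, .w, .i⟩,
  ⟨1, 3, 64, .i, .w⟩,
  ⟨0, 4, 85, .i, .i⟩,
  ⟨0, 2, 65, .w, .z⟩,
  ⟨0, 4, 105, .i, .i⟩,
  ⟨1, 4, 80, .i, .i⟩,
  ⟨28, 38, 124, .i, .w⟩,
  ⟨2, 4, 39, .z, .i⟩,
  ⟨0, 2, 78, .w, .z⟩,
  ⟨0, 5, 69, .i, .i⟩,
  ⟨1, 3, 64, .i, .z⟩,
  ⟨0, 5, 69, .i, .z⟩,
  ⟨1, 4, 85, .i, .z⟩,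
  ⟨27, 42, 116, .w, .z⟩,
  ⟨0, 3, 116, .i, .i⟩,
  ⟨0, 2, 83, .w, .z⟩,
  ⟨1, 3, 76, .i, .i⟩,
  ⟨1, 3, 85, .i, .i⟩,
  ⟨0, 0, 0, .o, .o⟩,
  ⟨0, 2, 66, .w, .z⟩,
  ⟨1, 4, 113, .z, .i⟩,
  ⟨1, 3, 96, .z, .i⟩,
  ⟨1, 3, 124, .i, .z⟩,
  ⟨0, 2, 116, .w, .z⟩,
  ⟨0, 2, 110, .w, .z⟩,
  ⟨1, 3, 122, .z, .i⟩,
  ⟨1, 3, 92, .i, .z⟩,
  ⟨0, 2, 111, .w, .z⟩,
  ⟨0, 5, 79, .w, .z⟩,
  ⟨1, 3, 105, .z, .i⟩,
  ⟨1, 3, 58, .i, .i⟩,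
  ⟨1, 3, 124, .w, .z⟩,
  ⟨0, 0, 0, .o, .o⟩,
  ⟨1, 3, 92, .i, .w⟩,
  ⟨1, 3, 78, .i, .i⟩,
  ⟨0, 2, 90, .w, .z⟩,
  ⟨1, 4, 113, .z, .i⟩,
  ⟨0, 5, 108, .w, .w⟩,
  ⟨0, 2, 66, .w, .z⟩,
  ⟨0, 2, 85, .w, .z⟩,
  ⟨0, 2, 63, .w, .z⟩,
  ⟨0, 2, 83, .w, .z⟩,
  ⟨1, 3, 88, .i, .i⟩,
  ⟨1, 3, 112, .w, .i⟩,
  ⟨1, 3, 90, .w, .i⟩,
  ⟨1, 3, 98, .w, .i⟩,
  ⟨0, 0, 0, .o, .o⟩,
  ⟨1, 3, 98, .w, .i⟩,
  ⟨1, 3, 104, .z, .z⟩,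
  ⟨0, 2, 67, .w, .z⟩,
  ⟨1, 3, 104, .z, .z⟩,
  ⟨0, 2, 90, .w, .z⟩,
  ⟨1, 4, 125, .i, .i⟩,
  ⟨0, 2, 85, .w, .z⟩,
  ⟨1, 3, 95, .z, .i⟩,
  ⟨1, 3, 116, .z, .i⟩,
  ⟨0, 2, 112, .w, .z⟩,
  ⟨0, 2, 86, .w, .z⟩,
  ⟨0, 2, 81, .w, .z⟩,
  ⟨0, 2, 109, .w, .z⟩,
  ⟨0, 2, 104, .w, .z⟩,
  ⟨0, 2, 72, .w, .z⟩]

/-- Three points on a line. -/
def onLine (l : List V6) (t : Tri) : Bool :=
  Nat.blt t.i l.length && Nat.blt t.j l.length && Nat.blt t.k l.length &&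
  (decide (V6.form (l.getD t.i q1) (l.getD t.j q1) = .o)) &&
  (decide (l.getD t.i q1 ≠ V6.zero)) &&
  ([Q4.o, .i, .w, .z].all fun c => decide (l.getD t.j q1 ≠ V6.smul c (l.getD t.i q1))) &&
  (decide (t.p ≠ .o)) && (decide (t.r ≠ .o)) &&
  decide (l.getD t.k q1 = V6.add (V6.smul t.p (l.getD t.i q1)) (V6.smul t.r (l.getD t.j q1)))

/-- The test of case `n`. -/
def test2 (n : ℕ) : Bool :=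
  onLine (points n) (tris.getD n ⟨0, 0, 0, .o, .o⟩) ||
    (Nat.ble 16 n && chain (seeds n) (allChains.getD n []))

theorem check2a : ((List.range 32).all test2) = true := by decide +kernel
theorem check2b : (((List.range 32).map (· + 32)).all test2) = true := by decide +kernel

theorem check2_all {n : ℕ} (h : n < 64) : test2 n = true := by
  rcases Nat.lt_or_ge n 32 with h' | h'
  · exact List.all_eq_true.1 check2a n (List.mem_range.2 h')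
  · exact List.all_eq_true.1 check2b n (List.mem_map.2 ⟨n - 32, List.mem_range.2 (by omega), by omega⟩)

end Cfsg.Agent.M22Cent
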