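import Cfsg.Agent.M22Cent.Pairs
import Cfsg.Agent.M22Cent.Cert
import Cfsg.Agent.ThreeTrans.SixChain.Main

/-!
# Chains of six among the common partners of two members that do not commute

The common partners of two members that do not commute contain a chain of six, and do not contain a
chain of four together with two noncommuting members centralising it.
-/

set_option autoImplicit false

open Cfsg Cfsg.Agent.Classical Cfsg.Agent.Classical.Herm Module

universe u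

open Cfsg.Agent.ThreeTrans Cfsg.Agent.ThreeTrans.SixChain

namespace Cfsg.Agent.M22Cent

variable {G : Type u} [Group G] [Finite G] {D : Set G}
  (hL : Loc D)
  {a b : G} (ha : a ∈ D) (hb : b ∈ D) (hab : ¬ Commute a b)
include hL ha hb hab

omit [Finite G] hL ha hb in
theorem pairPerp_subset {y : G} (hy : y ∈ pairPerp D a b) : y ∈ dperp D a :=
  ⟨hy.1, fun e => hab (e ▸ hy.2.2.symm), hy.2.1⟩

omit [Finite G] ha hb hab in
theorem pairPerp_conj {x y : G} (hx : x ∈ pairPerp D a b) (hy : y ∈ pairPerp D a b) :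
    x * y * x ∈ pairPerp D a b :=
  ⟨hL.conj_mem hx.1 hy.1, (hx.2.1.mul_right hy.2.1).mul_right hx.2.1,
    (hx.2.2.mul_right hy.2.2).mul_right hx.2.2⟩

/-- Two common partners on one line with a third are equal. -/
theorem eq_of_line {q y y' : G} (hq : q ∈ pairPerp D a b) (hy : y ∈ pairPerp D a b)
    (hy' : y' ∈ pairPerp D a b) (hqy : Commute q y) (hne : y ≠ q) (hne' : y' ≠ q)
    (h : y' ∈ ln (dperp D a) q y) : y' = y := by
  by_contra hyy
  obtain ⟨F, _, θ, -, hB, hmod⟩ := hL.model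
  obtain ⟨tp, hM⟩ := hmod q hq.1
  have hqa := pairPerp_subset hab hq
  have hqy' : Commute q y' := h.2 q hqa (Commute.refl q) hqy
  have hAq : a ∈ dperp D q := hL.symm ha hqa
  have hYq : y ∈ dperp D q := ⟨hy.1, hne, hqy⟩
  have hY'q : y' ∈ dperp D q := ⟨hy'.1, hne', hqy'⟩
  have hBq : b ∈ dperp D q := ⟨hb, fun e => hab (e ▸ hqa.2.2), hq.2.2.symm⟩
  have hln : y' ∈ ln (dperp D q) a y := by
    refine ⟨hY'q, fun w hw hwa hwy => ?_⟩
    rcases eq_or_ne w a with rfl | hwne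
    · exact hy'.2.1
    · exact h.2 w ⟨hw.1, hwne, hwa.symm⟩ hw.2.2.symm hwy
  obtain ⟨A, rfl⟩ := UModel.exists_tp hM hAq
  obtain ⟨Y, rfl⟩ := UModel.exists_tp hM hYq
  obtain ⟨Y', rfl⟩ := UModel.exists_tp hM hY'q
  obtain ⟨W, rfl⟩ := UModel.exists_tp hM hBq
  have hAY : hermB 6 θ A.1 Y.1 = 0 := (hM.comm_iff _ _).1 hy.2.1
  have hind : ∀ k : F, Y.1 ≠ k • A.1 := fun k hk =>
    hab ((UModel.tp_smul hB hM A Y hk ▸ hy.2.2 : Commute (tp W) (tp A)).symm)
  obtain ⟨α, β, hv⟩ := (UModel.mem_ln hB hM A Y hAY hind Y').1 hln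
  have h1 : hermB 6 θ W.1 Y.1 = 0 := (hM.comm_iff _ _).1 hy.2.2
  have h2 : hermB 6 θ W.1 Y'.1 = 0 := (hM.comm_iff _ _).1 hy'.2.2
  have h3 : hermB 6 θ W.1 A.1 ≠ 0 := fun e => hab ((hM.comm_iff _ _).2 e).symm
  rw [hv] at h2
  simp only [map_add, map_smul, smul_eq_mul, h1, mul_zero, add_zero, mul_eq_zero, h3, or_false] at h2
  refine hyy (UModel.tp_smul hB hM Y Y' (k := β) ?_)
  rw [hv, h2, zero_smul, zero_add]

/-- The common partners in given coordinates. -/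
theorem coded_of {F : Type} [Field F] {θ : F →+* F} {tp : UModel.Pt (hermB 6 θ) → G}
    (hB : UModel.Space (hermB 6 θ)) (hM : UModel.Model (hermB 6 θ) (dperp D a) tp) {k : F}
    {e : Fin 6 → Fin 6 → F} (hFr : Frame (hermB 6 θ) k e) {q : Fin 4 → G}
    (hq : ∀ i, q i ∈ pairPerp D a b) {u : G} (hu : u ∈ pairPerp D a b) {f : G}
    (hpts : ∀ j : Fin 6, ∃ v : UModel.Pt (hermB 6 θ), v.1 = e j ∧
      tp v = ![q 0, q 1, q 2, q 3, u, f] j) :
    ∃ n : ℕ, n < 64 ∧ (f ∈ pairPerp D a b → n < 16) ∧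
      (∀ x ∈ seeds n, Coded (pairPerp D a b) tp k e x) ∧
      ∀ x y, Coded (pairPerp D a b) tp k e x → Coded (pairPerp D a b) tp k e y →
        Coded (pairPerp D a b) tp k e (V6.tr x y) := by
  classical
  choose E hE ht using hpts
  have hrep : ∀ y ∈ dperp D a, ∃ v, tp v = y := fun y hy => UModel.exists_tp hM hy
  choose pt hpt using hrep
  have hzero : ∀ {y z : G} {v w : UModel.Pt (hermB 6 θ)}, tp v = y → tp w = z →
      (hermB 6 θ v.1 w.1 = 0 ↔ Commute y z) := by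
    rintro y z v w rfl rfl
    exact (hM.comm_iff v w).symm
  have hscale : ∀ (v : UModel.Pt (hermB 6 θ)) (c : F) (hc : c ≠ 0),
      ∃ v' : UModel.Pt (hermB 6 θ), v'.1 = c • v.1 ∧ tp v' = tp v := fun v c hc =>
    ⟨⟨c • v.1, smul_ne_zero hc v.2.1, by simp [v.2.2]⟩, rfl, UModel.tp_smul hB hM v _ rfl⟩
  have hall := hFr.all
  have hqa : ∀ i, q i ∈ dperp D a := fun i => pairPerp_subset hab (hq i)
  set E0 := E 0
  set E1 := E 1
  set E2 := E 2
  set E3 := E 3
  set E4 := E 4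
  set E5 := E 5
  have t0 : tp E0 = q 0 := ht 0
  have t1 : tp E1 = q 1 := ht 1
  have t2 : tp E2 = q 2 := ht 2
  have t3 : tp E3 = q 3 := ht 3
  have t4 : tp E4 = u := ht 4
  have t5 : tp E5 = f := ht 5
  have n1 : hermB 6 θ E0.1 E1.1 = 1 := by
    show hermB 6 θ (E 0).1 (E 1).1 = 1
    rw [hE, hE, hFr.gram]; rfl
  have hnc : ¬ Commute (q 0) (q 1) := fun h => one_ne_zero (α := F) (n1.symm.trans ((hzero t0 t1).2 h))
  -- coded points among the common partners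
  let Good : V6 → Prop := Coded (pairPerp D a b) tp k e
  have hbase : ∀ (E : UModel.Pt (hermB 6 θ)) (x : V6), E.1 = x.val k e → tp E ∈ pairPerp D a b →
      Good x := fun E x h1 h2 => ⟨E, h1, h2⟩
  have hunit : V6.val k e q1 = E0.1 ∧ V6.val k e q2 = E1.1 ∧ V6.val k e q3 = E2.1 ∧
      V6.val k e q4 = E3.1 ∧ V6.val k e uu = E4.1 := by
    simp [E0, E1, E2, E3, E4, hE, V6.val, q1, q2, q3, q4, uu, Q4.val]
  have g1 : Good q1 := hbase E0 _ hunit.1.symm (t0 ▸ hq 0)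
  have g2 : Good q2 := hbase E1 _ hunit.2.1.symm (t1 ▸ hq 1)
  have g3 : Good q3 := hbase E2 _ hunit.2.2.1.symm (t2 ▸ hq 2)
  have g4 : Good q4 := hbase E3 _ hunit.2.2.2.1.symm (t3 ▸ hq 3)
  have g5 : Good uu := hbase E4 _ hunit.2.2.2.2.symm (t4 ▸ hu)
  have htr : ∀ x y, Good x → Good y → Good (V6.tr x y) := by
    rintro x y ⟨v, hv, hvW⟩ ⟨w, hw, hwW⟩
    have hsum0 : w.1 + hermB 6 θ v.1 w.1 • v.1 ≠ 0 := by
      intro h0
      have h1 := congrArg (hermB 6 θ v.1) h0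
      rw [map_add, map_smul, v.2.2, smul_zero, add_zero, map_zero] at h1
      rw [h1, zero_smul, add_zero] at h0
      exact w.2.1 h0
    have hiso : hermB 6 θ (w.1 + hermB 6 θ v.1 w.1 • v.1) (w.1 + hermB 6 θ v.1 w.1 • v.1) = 0 := by
      have hs : θ (hermB 6 θ v.1 w.1) = hermB 6 θ w.1 v.1 := hB.herm.symm _ _
      simp only [map_add, map_smul, LinearMap.map_smulₛₗ, LinearMap.add_apply, LinearMap.smul_apply,
        smul_eq_mul, v.2.2, w.2.2, hs, mul_zero, zero_add, add_zero]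
      rw [mul_comm]
      exact UModel.add_self' hB _
    refine ⟨⟨_, hsum0, hiso⟩, ?_, hM.conj v w ⟨_, hsum0, hiso⟩ rfl ▸ pairPerp_conj hL hvW hwW⟩
    show w.1 + hermB 6 θ v.1 w.1 • v.1 = _
    rw [V6.tr, V6.val_add hFr, V6.val_smul hFr, ← V6.val_form hFr, ← hv, ← hw]
  -- every residue point lifts
  have hq01 : hermB 6 θ E1.1 E0.1 = 1 := UModel.symm_one hB n1
  have hlift : ∀ X : UModel.Pt (hermB 6 θ), hermB 6 θ E0.1 X.1 = 0 → hermB 6 θ E1.1 X.1 = 0 →
      ∃ (c : F) (v : UModel.Pt (hermB 6 θ)), v.1 = X.1 + c • E0.1 ∧ tp v ∈ pairPerp D a b := by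
    set q0 := q 0
    set S := {y | y ∈ dperp D q0 ∧ Commute y a ∧ Commute y b} with hS
    have hS45 : S.ncard = 45 := (hL.layer (hq 0).1).pair a (hL.symm ha (hqa 0))
      b ⟨hb, fun e' => hab (e'.symm ▸ (hqa 0).2.2), (hq 0).2.2.symm⟩ hab
    have hSW : ∀ y ∈ S, y ∈ pairPerp D a b := fun y hy => ⟨hy.1.1, hy.2.1.symm, hy.2.2.symm⟩
    set T := {y | y ∈ dperp D a ∧ Commute y q0 ∧ Commute y (q 1)} with hT
    have hT45 : T.ncard = 45 :=
      (hL.layer ha).pair q0 (hqa 0) (q 1) (hqa 1) hnc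
    have hproj : ∀ y ∈ S, ∃ z : G, ∃ Y Z : UModel.Pt (hermB 6 θ), tp Y = y ∧ tp Z = z ∧
        Z.1 = Y.1 + hermB 6 θ E1.1 Y.1 • E0.1 ∧ hermB 6 θ E0.1 Y.1 = 0 ∧
        ∀ c : F, Y.1 ≠ c • E0.1 := by
      intro y hy
      set Y := pt y (pairPerp_subset hab (hSW y hy))
      have hY : tp Y = y := hpt _ _
      have h0 : hermB 6 θ E0.1 Y.1 = 0 := (hzero t0 hY).2 hy.1.2.2
      have hind : ∀ c : F, Y.1 ≠ c • E0.1 := fun c hc => hy.1.2.1 (by
        rw [← hY, ← t0]; exact UModel.tp_smul hB hM E0 Y hc)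
      refine ⟨_, Y, ⟨Y.1 + hermB 6 θ E1.1 Y.1 • E0.1, fun e' => hind (hermB 6 θ E1.1 Y.1) ?_, ?_⟩,
        hY, rfl, rfl, h0, hind⟩
      · calc Y.1 = (Y.1 + hermB 6 θ E1.1 Y.1 • E0.1) + hermB 6 θ E1.1 Y.1 • E0.1 := by
              rw [add_assoc, UModel.vadd_self hB, add_zero]
          _ = _ := by rw [e', zero_add]
      · simp [Y.2.2, E0.2.2, h0, (UModel.symm_zero hB).1 h0]
    choose π Yf Zf hYf hZf hZY hY0 hYi using hproj
    let π' : G → G := fun y => if h : y ∈ S then π y h else 1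
    have hmaps : π' '' S ⊆ T := by
      rintro - ⟨y, hy, rfl⟩
      simp only [π', dif_pos hy, ← hZf y hy]
      refine ⟨UModel.tp_mem hM _, ((hzero t0 rfl).1 ?_).symm, ((hzero t1 rfl).1 ?_).symm⟩
      · rw [hZY y hy]; simp [hY0 y hy, E0.2.2]
      · rw [hZY y hy]; simp [hq01, UModel.add_self' hB]
    have hinj : Set.InjOn π' S := by
      intro y hy y' hy' he
      simp only [π', dif_pos hy, dif_pos hy', ← hZf y hy, ← hZf y' hy'] at he
      obtain ⟨c, hc⟩ := (hM.eq_iff _ _).1 he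
      rw [hZY y hy, hZY y' hy'] at hc
      by_contra hne
      refine hne (eq_of_line hL ha hb hab (hq 0) (hSW y hy) (hSW y' hy') hy.1.2.2 hy.1.2.1
        hy'.1.2.1 ?_).symm
      rw [← hYf y hy, ← hYf y' hy', show q 0 = tp E0 from t0.symm,
        UModel.mem_ln hB hM E0 (Yf y hy) (hY0 y hy) (hYi y hy)]
      refine ⟨c * hermB 6 θ E1.1 (Yf y hy).1 + hermB 6 θ E1.1 (Yf y' hy').1, c, ?_⟩
      calc (Yf y' hy').1 = ((Yf y' hy').1 + hermB 6 θ E1.1 (Yf y' hy').1 • E0.1) +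
            hermB 6 θ E1.1 (Yf y' hy').1 • E0.1 := by rw [add_assoc, UModel.vadd_self hB, add_zero]
        _ = _ := by rw [hc]; module
    have heq : π' '' S = T := Set.eq_of_subset_of_ncard_le hmaps
      (by rw [hinj.ncard_image, hS45, hT45]) (Set.toFinite _)
    intro X hX0 hX1
    have hXT : tp X ∈ T := ⟨UModel.tp_mem hM X, ((hzero t0 rfl).1 hX0).symm, ((hzero t1 rfl).1 hX1).symm⟩
    rw [← heq] at hXT
    obtain ⟨y, hy, hyX⟩ := hXT
    simp only [π', dif_pos hy, ← hZf y hy] at hyX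
    obtain ⟨c, hc⟩ := (hM.eq_iff _ _).1 hyX
    have hc0 : c ≠ 0 := fun e' => X.2.1 (by rw [hc, e', zero_smul])
    obtain ⟨v, hv1, hv2⟩ := hscale (Yf y hy) c hc0
    refine ⟨c * hermB 6 θ E1.1 (Yf y hy).1, v, ?_, hv2 ▸ (hYf y hy).symm ▸ hSW y hy⟩
    rw [hc, hZY y hy, hv1, smul_add, smul_smul, add_assoc, UModel.vadd_self hB, add_zero]
  have hcode : ∀ x : V6, V6.form q1 x = .o → V6.form q2 x = .o → V6.form x x = .o → x ≠ V6.zero →
      ∃ i, i < 4 ∧ Good (x.add (V6.smul (par i) q1)) := by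
    intro x h1 h2 h3 h4
    have hne : x.val k e ≠ 0 := fun e' => h4 (V6.eq_zero_of_val hFr e')
    have e1 : hermB 6 θ E0.1 (x.val k e) = 0 := by
      rw [← hunit.1, V6.val_form hFr, h1]; rfl
    have e2 : hermB 6 θ E1.1 (x.val k e) = 0 := by
      rw [← hunit.2.1, V6.val_form hFr, h2]; rfl
    obtain ⟨c, v, hv, hvW⟩ := hlift ⟨x.val k e, hne, by rw [V6.val_form hFr, h3]; rfl⟩ e1 e2
    obtain ⟨i, hi, hic⟩ : ∃ i, i < 4 ∧ Q4.val k (par i) = c := by
      rcases hall c with rfl | rfl | rfl | rfl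
      exacts [⟨0, by norm_num, rfl⟩, ⟨1, by norm_num, rfl⟩, ⟨2, by norm_num, rfl⟩, ⟨3, by norm_num, rfl⟩]
    exact ⟨i, hi, v, by rw [V6.val_add hFr, V6.val_smul hFr, hic, hunit.1, hv], hvW⟩
  obtain ⟨m, hm, gm, hm0⟩ : ∃ m, m < 4 ∧ Good ⟨par m, .o, .o, .o, .o, .i⟩ ∧
      (f ∈ pairPerp D a b → m = 0) := by
    by_cases hfW : f ∈ pairPerp D a b
    · exact ⟨0, by norm_num, hbase E5 _ (by simp [E5, hE, V6.val, par, Q4.val]) (t5 ▸ hfW), fun _ => rfl⟩
    · obtain ⟨i, hi, gi⟩ := hcode ⟨.o, .o, .o, .o, .o, .i⟩ rfl rfl rfl (by decide)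
      refine ⟨i, hi, ?_, fun h => absurd h hfW⟩
      generalize par i = p at gi ⊢
      cases p <;> exact gi
  obtain ⟨l, hl, gl⟩ := hcode ⟨.i, .o, .i, .o, .o, .i⟩ rfl rfl rfl (by decide)
  obtain ⟨l', hl', gl'⟩ := hcode ⟨.w, .o, .w, .o, .o, .i⟩ rfl rfl rfl (by decide)
  set n := 16 * m + 4 * l + l' with hn
  have hseeds : ∀ x ∈ seeds n, Good x := by
    simp only [seeds, show n / 16 = m by omega, show n / 4 % 4 = l by omega,
      show n % 4 = l' by omega, List.mem_cons, List.not_mem_nil, or_false]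
    rintro x (rfl | rfl | rfl | rfl | rfl | rfl | rfl | rfl)
    · exact g1
    · exact g2
    · exact g3
    · exact g4
    · exact g5
    · exact gm
    · generalize par l = p at gl ⊢
      cases p <;> exact gl
    · generalize par l' = p at gl' ⊢
      cases p <;> exact gl'
  exact ⟨n, by omega, fun h => by have := hm0 h; omega, hseeds, htr⟩

/-- Coordinates for the common partners from a chain of four, a partner `u` and a point `f`. -/
theorem frame_of {q : Fin 4 → G} (hq : ∀ i, q i ∈ pairPerp D a b)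
    (hqq : ∀ i j, Commute (q i) (q j) ↔ ¬ Adj i j) {u : G} (hu : u ∈ pairPerp D a b)
    (huq : ∀ i, Commute u (q i)) {f : G} (hf : f ∈ dperp D a) (hfq : ∀ i, Commute f (q i))
    (hfu : ¬ Commute f u) :
    ∃ (F : Type) (_ : Field F) (θ : F →+* F) (tp : UModel.Pt (hermB 6 θ) → G) (k : F)
      (e : Fin 6 → Fin 6 → F) (n : ℕ), UModel.Space (hermB 6 θ) ∧
      UModel.Model (hermB 6 θ) (dperp D a) tp ∧ Frame (hermB 6 θ) k e ∧ n < 64 ∧
      (f ∈ pairPerp D a b → n < 16) ∧ (∀ x ∈ seeds n, Coded (pairPerp D a b) tp k e x) ∧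
      (∀ x y, Coded (pairPerp D a b) tp k e x → Coded (pairPerp D a b) tp k e y →
        Coded (pairPerp D a b) tp k e (V6.tr x y)) ∧
      (∀ j : Fin 6, ∃ v : UModel.Pt (hermB 6 θ), v.1 = e j ∧
        tp v = ![q 0, q 1, q 2, q 3, u, f] j) := by
  obtain ⟨F, _, θ, hF4, hB, hmod⟩ := hL.model
  obtain ⟨tp, hM⟩ := hmod a ha
  obtain ⟨k, e, hFr, hpts⟩ := SixChain.frame_points hB hF4 hM
    (fun i => pairPerp_subset hab (hq i)) hqq (pairPerp_subset hab hu) huq hf hfq hfu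
  obtain ⟨n, h1, h2, h3, h4⟩ := coded_of hL ha hb hab hB hM hFr hq hu hpts
  exact ⟨F, inferInstance, θ, tp, k, e, n, hB, hM, hFr, h1, h2, h3, h4, hpts⟩

/-- Only three cases occur. -/
theorem case_of {F : Type} [Field F] {θ : F →+* F} {tp : UModel.Pt (hermB 6 θ) → G}
    (hB : UModel.Space (hermB 6 θ)) (hM : UModel.Model (hermB 6 θ) (dperp D a) tp) {k : F}
    {e : Fin 6 → Fin 6 → F} (hFr : Frame (hermB 6 θ) k e) {n : ℕ} (hn : n < 64)
    (hseeds : ∀ x ∈ seeds n, Coded (pairPerp D a b) tp k e x)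
    (htr : ∀ x y, Coded (pairPerp D a b) tp k e x → Coded (pairPerp D a b) tp k e y →
      Coded (pairPerp D a b) tp k e (V6.tr x y)) :
    16 ≤ n ∧ chain (seeds n) (allChains.getD n []) = true := by
  have htest := check2_all hn
  simp only [test2, Bool.or_eq_true, Bool.and_eq_true, Nat.ble_eq] at htest
  rcases htest with hbad | h
  swap
  · exact h
  exfalso
  generalize tris.getD n ⟨0, 0, 0, .o, .o⟩ = T at hbad
  simp only [onLine, Bool.and_eq_true, Nat.blt_eq, decide_eq_true_eq, List.all_eq_true] at hbad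
  obtain ⟨⟨⟨⟨⟨⟨⟨⟨hi, hj⟩, hk⟩, hform⟩, hnz⟩, hsm⟩, hp0⟩, hr0⟩, heq⟩ := hbad
  have hall : ∀ x ∈ points n, Coded (pairPerp D a b) tp k e x :=
    Coded.run htr (hseeds _ (by simp [seeds])) _ _ hseeds
  have hget : ∀ i < (points n).length, Coded (pairPerp D a b) tp k e ((points n).getD i q1) := by
    intro i hi
    rw [List.getD_eq_getElem _ _ hi]
    exact hall _ (List.getElem_mem _)
  obtain ⟨Y, hY, hYW⟩ := hget _ hi
  obtain ⟨Z, hZ, hZW⟩ := hget _ hj
  obtain ⟨U, hU, hUW⟩ := hget _ hk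
  have hperp : hermB 6 θ Y.1 Z.1 = 0 := by rw [hY, hZ, V6.val_form hFr, hform]; rfl
  have hind : ∀ c : F, Z.1 ≠ c • Y.1 := by
    intro c hc
    rw [hY, hZ] at hc
    obtain ⟨q, -, hq⟩ := V6.eq_of_val_smul hFr hc
    exact hsm q (by cases q <;> simp) hq
  have hUv : U.1 = T.p.val k • Y.1 + T.r.val k • Z.1 := by
    rw [hU, heq, V6.val_add hFr, V6.val_smul hFr, V6.val_smul hFr, hY, hZ]
  have hp : T.p.val k ≠ 0 := fun h => hp0 (Q4.val_eq_zero hFr h)
  have hr : T.r.val k ≠ 0 := fun h => hr0 (Q4.val_eq_zero hFr h)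
  have hne : tp Z ≠ tp Y := fun h => by
    obtain ⟨c, hc⟩ := (hM.eq_iff _ _).1 h.symm
    exact hind c hc
  have hUY : tp U ≠ tp Y := fun h => by
    obtain ⟨c, hc⟩ := (hM.eq_iff _ _).1 h.symm
    rw [hUv] at hc
    refine hind ((T.r.val k)⁻¹ * (c - T.p.val k)) ?_
    rw [mul_smul, sub_smul, ← hc, add_sub_cancel_left, smul_smul, inv_mul_cancel₀ hr, one_smul]
  have hUZ : tp U = tp Z := eq_of_line hL ha hb hab hYW hZW hUW ((hM.comm_iff _ _).2 hperp) hne hUY
    ((UModel.mem_ln hB hM Y Z hperp hind U).2 ⟨_, _, hUv⟩)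
  obtain ⟨c, hc⟩ := (hM.eq_iff _ _).1 hUZ.symm
  rw [hUv] at hc
  refine hind ((T.p.val k) * (c - T.r.val k)⁻¹) ?_
  have hcr : c - T.r.val k ≠ 0 := fun h => by
    rw [sub_eq_zero.1 h, add_eq_right, smul_eq_zero] at hc
    exact Y.2.1 (hc.resolve_left hp)
  rw [mul_comm, mul_smul, eq_inv_smul_iff₀ hcr, sub_smul, ← hc, add_sub_cancel_right]

/-- Two chains and a partner give a chain of six. -/
theorem six_chain_of {q : Fin 4 → G} (hq : ∀ i, q i ∈ pairPerp D a b)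
    (hqq : ∀ i j, Commute (q i) (q j) ↔ ¬ Adj i j) {u : G} (hu : u ∈ pairPerp D a b)
    (huq : ∀ i, Commute u (q i)) {f : G} (hf : f ∈ dperp D a) (hfq : ∀ i, Commute f (q i))
    (hfu : ¬ Commute f u) :
    f ∉ pairPerp D a b ∧ ∃ p : Fin 6 → G, (∀ i, p i ∈ pairPerp D a b) ∧
      ∀ i j, Commute (p i) (p j) ↔ ¬ Adj i j := by
  obtain ⟨F, _, θ, tp, k, e, n, hB, hM, hFr, hn, hm0, hseeds, htr, -⟩ :=
    frame_of hL ha hb hab hq hqq hu huq hf hfq hfu
  obtain ⟨h16, hchain⟩ := case_of hL ha hb hab hB hM hFr hn hseeds htr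
  simp only [chain, Bool.and_eq_true, decide_eq_true_eq, List.all_eq_true, List.mem_range] at hchain
  set C := allChains.getD n []
  obtain ⟨⟨hlen, hlt⟩, hadj⟩ := hchain
  refine ⟨fun hfW => by have := hm0 hfW; omega, ?_⟩
  have hmem : ∀ i : Fin 6, Coded (pairPerp D a b) tp k e ((seeds n).getD (C.getD i.val 0) q1) := fun i => by
    have hi : C.getD i.val 0 ∈ C := by
      rw [List.getD_eq_getElem _ _ (by rw [hlen]; exact i.isLt)]
      exact List.getElem_mem _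
    refine hseeds _ ?_
    rw [List.getD_eq_getElem _ _ (hlt _ hi)]
    exact List.getElem_mem _
  choose v hv hvW using hmem
  refine ⟨fun i => tp (v i), hvW, fun i j => ?_⟩
  rw [hM.comm_iff, hv, hv, V6.val_form hFr]
  refine Iff.trans ⟨fun h => ?_, fun h => by rw [h]; rfl⟩ (hadj i.val i.isLt j.val j.isLt)
  exact Q4.val_eq_zero hFr h

omit ha hb hab in
/-- A four-chain in the layer of a member perpendicular to two members that do not commute. -/
theorem exists_four_in_layer {w x y : G} (hw : w ∈ D) (hx : x ∈ dperp D w) (hy : y ∈ dperp D w)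
    (hxy : ¬ Commute x y) : ∃ q : Fin 4 → G, (∀ i, q i ∈ dperp D w ∧ Commute x (q i) ∧ Commute y (q i)) ∧
      ∀ i j, Commute (q i) (q j) ↔ ¬ Adj i j := by
  obtain ⟨F, _, θ, hF4, hB, hmod⟩ := hL.model
  obtain ⟨tp, hM⟩ := hmod w hw
  obtain ⟨vx, rfl⟩ := UModel.exists_tp hM hx
  obtain ⟨vy, rfl⟩ := UModel.exists_tp hM hy
  obtain ⟨q, hq, hqq⟩ := UModel.exists_four_chain hB hF4 vx vy fun h => hxy ((hM.comm_iff _ _).2 h)
  exact ⟨fun i => tp (q i), fun i =>
    ⟨UModel.tp_mem hM _, (hM.comm_iff _ _).2 (hq i).1, (hM.comm_iff _ _).2 (hq i).2⟩,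
    fun i j => (hM.comm_iff _ _).trans (hqq i j)⟩

omit hb hab in
/-- A point of a layer centralising a chain of four that moves a member centralising the chain. -/
theorem exists_perp_point {q : Fin 4 → G} (hqd : ∀ i, q i ∈ dperp D a)
    (hqq : ∀ i j, Commute (q i) (q j) ↔ ¬ Adj i j) {u : G} (hua : u ∈ dperp D a)
    (huq : ∀ i, Commute u (q i)) : ∃ f ∈ dperp D a, (∀ i, Commute f (q i)) ∧ ¬ Commute f u := by
  obtain ⟨F, _, θ, hF4, hB, hmod⟩ := hL.model
  obtain ⟨tp, hM⟩ := hmod a ha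
  obtain ⟨U, hU⟩ := UModel.exists_tp hM hua
  choose Q hQ using fun i => UModel.exists_tp hM (hqd i)
  have := hB.fin
  have := hB.finF
  -- an isotropic vector perpendicular to the chain but not to `U`
  obtain ⟨f, hff, hfU, hfQ⟩ : ∃ f : Fin 6 → F, hermB 6 θ f f = 0 ∧ hermB 6 θ U.1 f ≠ 0 ∧
      ∀ i, hermB 6 θ (Q i).1 f = 0 := by
    obtain ⟨k, hk1, hk⟩ := UModel.exists_omega hB hF4
    have hk3 : k * k * k = 1 := by linear_combination (k - 1) * hk
    obtain ⟨g, hgg, hUg⟩ := Herm.exists_hyp_partner hB.herm U.2.1 U.2.2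
    have zU : ∀ i, hermB 6 θ U.1 (Q i).1 = 0 := fun i =>
      (hM.comm_iff _ _).1 (by rw [hU, hQ]; exact huq i)
    have zQ : ∀ i j, ¬ Adj i j → hermB 6 θ (Q i).1 (Q j).1 = 0 := fun i j h =>
      (hM.comm_iff _ _).1 (by rw [hQ, hQ]; exact (hqq i j).2 h)
    have nQ : ∀ i j, Adj i j → hermB 6 θ (Q i).1 (Q j).1 ≠ 0 := fun i j h e =>
      (hqq i j).1 (by rw [← hQ i, ← hQ j]; exact (hM.comm_iff _ _).2 e) h
    have z00 := (Q 0).2.2
    have a01 := nQ 0 1 (Or.inl rfl)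
    have a32 := nQ 3 2 (Or.inr rfl)
    have a10 := nQ 1 0 (Or.inr rfl)
    have a23 := nQ 2 3 (Or.inl rfl)
    set c1 : F := hermB 6 θ (Q 0).1 g / hermB 6 θ (Q 0).1 (Q 1).1 with hc1
    set c2 : F := hermB 6 θ (Q 3).1 g / hermB 6 θ (Q 3).1 (Q 2).1 with hc2
    set c0 : F := (hermB 6 θ (Q 1).1 g + c2 * hermB 6 θ (Q 1).1 (Q 2).1) /
      hermB 6 θ (Q 1).1 (Q 0).1 with hc0
    set c3 : F := (hermB 6 θ (Q 2).1 g + c1 * hermB 6 θ (Q 2).1 (Q 1).1) /
      hermB 6 θ (Q 2).1 (Q 3).1 with hc3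
    set f0 := g + c0 • (Q 0).1 + c1 • (Q 1).1 + c2 • (Q 2).1 + c3 • (Q 3).1 with hf0
    have hUf : hermB 6 θ U.1 f0 = 1 := by
      simp [hf0, zU, hUg]
    have hQf : ∀ i, hermB 6 θ (Q i).1 f0 = 0 := by
      have htwo := UModel.two hB
      intro i
      fin_cases i
      · simp only [hf0, map_add, map_smul, smul_eq_mul, Fin.zero_eta, (Q 0).2.2,
          zQ 0 2 (by simp [Adj]), zQ 0 3 (by simp [Adj]), mul_zero, add_zero, hc1,
          div_mul_cancel₀ _ a01]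
        exact UModel.add_self' hB _
      · simp only [hf0, map_add, map_smul, smul_eq_mul, Fin.mk_one, (Q 1).2.2,
          zQ 1 3 (by simp [Adj]), mul_zero, add_zero, hc0, div_mul_cancel₀ _ a10]
        grind
      · simp only [hf0, map_add, map_smul, smul_eq_mul, Fin.reduceFinMk, (Q 2).2.2,
          zQ 2 0 (by simp [Adj]), mul_zero, add_zero, hc3, div_mul_cancel₀ _ a23]
        grind
      · simp only [hf0, map_add, map_smul, smul_eq_mul, Fin.reduceFinMk, (Q 3).2.2,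
          zQ 3 0 (by simp [Adj]), zQ 3 1 (by simp [Adj]), mul_zero, add_zero, hc2,
          div_mul_cancel₀ _ a32]
        exact UModel.add_self' hB _
    rcases UModel.self_cases hB f0 with h | h
    · exact ⟨f0, h, by rw [hUf]; exact one_ne_zero, hQf⟩
    · refine ⟨f0 + k • U.1, ?_, by simp [hUf, U.2.2], fun i => by
        simp [hQf i, (UModel.symm_zero hB).1 (zU i)]⟩
      simp [h, U.2.2, hUf, UModel.symm_one hB hUf, UModel.theta_cube hB hk3]
      linear_combination hk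
  have hf0 : f ≠ 0 := fun e => hfU (by rw [e, map_zero])
  refine ⟨tp ⟨f, hf0, hff⟩, UModel.tp_mem hM _, fun i => ?_, ?_⟩
  · rw [← hQ i]; exact ((hM.comm_iff _ _).2 (hfQ i)).symm
  · rw [← hU]; exact fun e => hfU ((hM.comm_iff _ _).1 e.symm)

/-- A chain of four, a partner `u` centralising it and a point centralising the chain that moves `u`. -/
theorem exists_frame_seed (hne : (pairPerp D a b).Nonempty) : ∃ q : Fin 4 → G, (∀ i, q i ∈ pairPerp D a b) ∧
    (∀ i j, Commute (q i) (q j) ↔ ¬ Adj i j) ∧ ∃ u ∈ pairPerp D a b, (∀ i, Commute u (q i)) ∧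
      ∃ f ∈ dperp D a, (∀ i, Commute f (q i)) ∧ ¬ Commute f u := by
  obtain ⟨u, hu⟩ := hne
  have hua := pairPerp_subset hab hu
  obtain ⟨q, hq, hqq⟩ := exists_four_in_layer hL hu.1 (hL.symm ha hua)
    (show b ∈ dperp D u from ⟨hb, fun e => hab (e ▸ hua.2.2), hu.2.2.symm⟩) hab
  have hqW : ∀ i, q i ∈ pairPerp D a b := fun i => ⟨(hq i).1.1, (hq i).2.1, (hq i).2.2⟩
  exact ⟨q, hqW, hqq, u, hu, fun i => (hq i).1.2.2, exists_perp_point hL ha
    (fun i => pairPerp_subset hab (hqW i)) hqq hua fun i => (hq i).1.2.2⟩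

/-- The common partners of two members that do not commute contain a chain of six. -/
theorem exists_six_chain (hne : (pairPerp D a b).Nonempty) : ∃ p : Fin 6 → G, (∀ i, p i ∈ pairPerp D a b) ∧
    ∀ i j, Commute (p i) (p j) ↔ ¬ Adj i j := by
  obtain ⟨q, hq, hqq, u, hu, huq, f, hf, hfq, hfu⟩ := exists_frame_seed hL ha hb hab hne
  exact (six_chain_of hL ha hb hab hq hqq hu huq hf hfq hfu).2

/-- No chain of four and two noncommuting members centralising it. -/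
theorem no_four_two {q : Fin 4 → G} (hq : ∀ i, q i ∈ pairPerp D a b)
    (hqq : ∀ i j, Commute (q i) (q j) ↔ ¬ Adj i j) {u f : G} (hu : u ∈ pairPerp D a b)
    (hf : f ∈ pairPerp D a b) (huq : ∀ i, Commute u (q i)) (hfq : ∀ i, Commute f (q i)) :
    Commute f u := by
  by_contra hfu
  exact (six_chain_of hL ha hb hab hq hqq hu huq (pairPerp_subset hab hf) hfq hfu).1 hf

end Cfsg.Agent.M22Cent
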