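import Cfsg.Agent.ThreeTrans.CoverThompson

/-!
# An invariant set with 22 members in the preimage of a radical is a class of transvection lifts
-/

set_option autoImplicit false

open Cfsg Cfsg.Agent.Classical Cfsg.Agent.Classical.Herm Module
open Cfsg.Agent.ThreeTrans Cfsg.Agent.ThreeTrans.UModel

namespace Cfsg.Agent.M22Cent

variable {F V : Type*} [Field F] [AddCommGroup V] [Module F V] {θ : F →+* F}
  {B : V →ₛₗ[θ] V →ₗ[F] F} {C X : Type*} [Group C] [Group X]
  {hB : Space B} {ξ : C →* X} {π : suG B →* X} {z : C}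

/-- An invariant set that contains the central involution, no square, and 22 elements of the preimage
of a radical: besides the central involution its involutions are the lifts, in one class, of the
transvections. -/
theorem exists_class [Finite C] (hS : UModel.Setup hB ξ π z) (hperf : commutator C = ⊤)
    (hX : ¬ 2 ^ 16 ∣ Nat.card X) (f : Frame B) (P : C → Prop)
    (hP : ∀ h c, P c → P (h * c * h⁻¹)) (hPsq : ∀ u, ¬ P (u * u))
    (h22 : {c | c ∈ preRad ξ π f ∧ P c}.ncard = 22) :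
    ∃ x : V → C, Cls hB ξ π x ∧ (∀ v : Pt B, P (x v.1)) ∧
      ∀ c, c * c = 1 → P c → c ≠ z → ∃ v : Pt B, c = x v.1 := by
  classical
  have := hB.fin; have := hB.finF; have := finite_suG hB
  set O : Set C := {c | c ∈ preRad ξ π f ∧ P c}
  have hinj : ∀ g ∈ f.rad, ∀ g' ∈ f.rad, π g = π g' → g = g' := fun g hg g' hg' e =>
    hS.inj_sq (f.rad_sq hB hg) (f.rad_sq hB hg') (f.rad_comm hB hg hg') e
  have hconjP : ∀ {g : suG B} {c : C}, ξ c = π g → P c → ∀ s : suG B,
      ∃ c' : C, ξ c' = π (s * g * s⁻¹) ∧ P c' := by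
    intro g c hc hPc s
    obtain ⟨h, hh⟩ := hS.cov.surj (π s)
    exact ⟨h * c * h⁻¹, by simp [hh, hc], hP h c hPc⟩
  obtain ⟨x₀, hx₀⟩ := exists_cls hS
  -- the members in the preimage lie over transvections of the plane
  have hone : ∀ c ∈ preRad ξ π f, P c → c ≠ z → ∃ a : V, a ≠ 0 ∧ (∀ i, B (f.u i) a = 0) ∧
      ξ c = π (trv hB a) := by
    rintro c ⟨g, hg, hgc⟩ hPc hcz
    by_cases e1 : g = 1
    · exfalso
      rw [e1, map_one] at hgc
      rcases hS.kern c hgc.symm with rfl | rfl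
      · exact hPsq 1 (by rwa [one_mul])
      · exact hcz rfl
    by_cases e2 : g ∈ rankOne hB f
    · obtain ⟨a, ha, hap, rfl⟩ := e2
      exact ⟨a, ha, hap, hgc.symm⟩
    exfalso
    by_cases e3 : g ∈ rankTwo hB f
    · obtain ⟨_, ⟨p, hp, hpp, rfl⟩, _, ⟨q, hq, hqq, rfl⟩, hne, rfl⟩ := e3
      have hb2 := f.plane_perp hB hqq hqq
      have ha2 := f.plane_perp hB hpp hpp
      obtain ⟨⟨u, hu⟩, ⟨u', hu'⟩⟩ := pair_square hS hx₀ hperf hX hp ha2 hb2 (f.plane_perp hB hpp hqq)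
        (fun k hk => trv_indep hB hq hb2 ha2 hne.symm k hk)
      obtain ⟨y, hy, hc⟩ := Lift.exists_ker hS.cov
        (show ξ c = ξ (x₀ p * x₀ q) by rw [map_mul ξ, hx₀.map, hx₀.map, ← hgc, map_mul])
      rcases hS.kern y hy with rfl | rfl
      · exact hPsq u (by rw [hu]; rwa [hc, mul_one] at hPc)
      · exact hPsq u' (by rw [hu']; rwa [hc] at hPc)
    -- a member over three transvections has too many conjugates in the preimage
    set T := (f.rad : Set (suG B)) \ (({1} ∪ rankOne hB f) ∪ rankTwo hB f)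
    have hbase : ∀ g' ∈ T, ∃ s : suG B, g' = s * g * s⁻¹ := by
      rintro g' ⟨hg', hn⟩
      simp only [Set.mem_union, Set.mem_singleton_iff, not_or] at hn
      obtain ⟨p, q, r, hp, hpp, hqq, hrr, hpq, hpr, hqr, hind, hind2, rfl⟩ :=
        rankThree_prod hB f hg e1 e2 e3
      obtain ⟨p', q', r', hp', hpp', hqq', hrr', hpq', hpr', hqr', hind', hind2', rfl⟩ :=
        rankThree_prod hB f hg' hn.1.1 hn.1.2 hn.2
      obtain ⟨t, ⟨k, hk, ht⟩, ⟨k', hk', ht'⟩, ⟨k'', hk'', ht''⟩⟩ :=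
        move_triple hB hp hpp hqq hrr hpq hpr hqr hind hind2 f
      obtain ⟨u, ⟨l, hl, hu⟩, ⟨l', hl', hu'⟩, ⟨l'', hl'', hu''⟩⟩ :=
        move_triple hB hp' hpp' hqq' hrr' hpq' hpr' hqr' hind' hind2' f
      have e : t * (trv hB p * trv hB q * trv hB r) * t⁻¹ =
          u * (trv hB p' * trv hB q' * trv hB r') * u⁻¹ := by
        have key : ∀ (s : suG B) (a b c : V), s * (trv hB a * trv hB b * trv hB c) * s⁻¹ =
            trv hB (s.1 a) * trv hB (s.1 b) * trv hB (s.1 c) := fun s a b c => by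
          rw [← trv_conj hB s a, ← trv_conj hB s b, ← trv_conj hB s c]; group
        rw [key, key, ht, ht', ht'', hu, hu', hu'', trv_smul hB hk, trv_smul hB hk', trv_smul hB hk'',
          trv_smul hB hl, trv_smul hB hl', trv_smul hB hl'']
      refine ⟨u⁻¹ * t, ?_⟩
      calc trv hB p' * trv hB q' * trv hB r'
          = u⁻¹ * (u * (trv hB p' * trv hB q' * trv hB r') * u⁻¹) * u := by group
        _ = u⁻¹ * (t * (trv hB p * trv hB q * trv hB r) * t⁻¹) * u := by rw [e]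
        _ = _ := by group
    have hlift : ∀ g' ∈ T, ∃ c' : C, ξ c' = π g' ∧ P c' := fun g' hg' => by
      obtain ⟨s, rfl⟩ := hbase g' hg'
      exact hconjP hgc.symm hPc s
    choose! L hL hLP using hlift
    have h1 : T.ncard ≤ O.ncard := by
      refine Set.ncard_le_ncard_of_injOn L (fun g' hg' => ⟨⟨g', hg'.1, (hL g' hg').symm⟩, hLP g' hg'⟩)
        (fun g' hg' g'' hg'' e => hinj g' hg'.1 g'' hg''.1 ?_) (Set.toFinite _)
      rw [← hL g' hg', e, hL g'' hg'']
    rw [rankThree_card hB f hS.four, h22] at h1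
    omega
  -- a member other than the central involution
  obtain ⟨c₀, ⟨hc₀A, hc₀P⟩, hc₀z⟩ : ∃ c ∈ O, c ≠ z := Set.exists_ne_of_one_lt_ncard (by omega) z
  obtain ⟨a, ha, hap, hc₀ξ⟩ := hone c₀ hc₀A hc₀P hc₀z
  have haa : B a a = 0 := f.plane_perp hB hap hap
  obtain ⟨x, hx, hxa⟩ : ∃ x, Cls hB ξ π x ∧ x a = c₀ := by
    obtain ⟨y, hy, e⟩ := Lift.exists_ker hS.cov (show ξ c₀ = ξ (x₀ a) by rw [hx₀.map, hc₀ξ])
    rcases hS.kern y hy with rfl | rfl
    · exact ⟨x₀, hx₀, by rw [e, mul_one]⟩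
    · obtain ⟨x', hx', hflip⟩ := hx₀.flip hS
      exact ⟨x', hx', by rw [hflip a ha haa, e]⟩
  have hmove : ∀ v : Pt B, ∃ h : C, h * x a * h⁻¹ = x v.1 := by
    intro v
    obtain ⟨t, k, hk, ht⟩ := move_point hB ha haa v.2.1 v.2.2
    obtain ⟨h, hh⟩ := hS.cov.surj (π t)
    exact ⟨h, move_lift hS hx hh hk ht⟩
  have hxP : ∀ v : Pt B, P (x v.1) := fun v => by
    obtain ⟨h, hh⟩ := hmove v
    rw [← hh, hxa]; exact hP h c₀ hc₀P
  refine ⟨x, hx, hxP, fun c hcc hPc hcz => ?_⟩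
  obtain ⟨h, hh⟩ := exists_conj_mem hS f (c := c) (by rw [← map_mul, hcc, map_one])
  have hne : h * c * h⁻¹ ≠ z := fun e => hcz (by
    calc c = h⁻¹ * (h * c * h⁻¹) * h := by group
      _ = h⁻¹ * (z * h) := by rw [e, mul_assoc]
      _ = z := by rw [(hS.z_comm h).eq, inv_mul_cancel_left])
  obtain ⟨p, hp, hpp, hpξ⟩ := hone _ hh (hP h c hPc) hne
  have hp2 : B p p = 0 := f.plane_perp hB hpp hpp
  have hxp : h * c * h⁻¹ = x p := by
    obtain ⟨y, hy, e⟩ := Lift.exists_ker hS.cov (show ξ (h * c * h⁻¹) = ξ (x p) by rw [hx.map, hpξ])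
    rcases hS.kern y hy with rfl | rfl
    · rw [e, mul_one]
    exfalso
    -- both lifts of the transvections would be members
    have hboth : ∀ v : Pt B, P (x v.1 * y) := by
      intro v
      obtain ⟨t, k, hk, ht⟩ := move_point hB hp hp2 v.2.1 v.2.2
      obtain ⟨g, hg⟩ := hS.cov.surj (π t)
      have e' : g * (x p * y) * g⁻¹ = x v.1 * y := by
        rw [show g * (x p * y) * g⁻¹ = g * x p * g⁻¹ * (g * y * g⁻¹) by group,
          move_lift hS hx hg hk ht, ← (hS.z_comm g).eq, mul_inv_cancel_right]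
      rw [← e', ← e]
      exact hP g _ (hP h c hPc)
    have hR : ∀ g ∈ rankOne hB f, ∃ v : Pt B, g = trv hB v.1 := by
      rintro g ⟨q, hq, hqp, rfl⟩
      exact ⟨⟨q, hq, f.plane_perp hB hqp hqp⟩, rfl⟩
    have : Inhabited (Pt B) := ⟨⟨p, hp, hp2⟩⟩
    choose! Q hQ using hR
    have hmem : ∀ g ∈ rankOne hB f, ∀ w : C, ξ w = 1 → P (x (Q g).1 * w) →
        x (Q g).1 * w ∈ O := fun g hg w hw hPw => ⟨⟨g, (rankOne_inv hB hg).1, by
      rw [map_mul ξ, hx.map, ← hQ g hg, hw, mul_one]⟩, hPw⟩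
    set O₁ := (fun g => x (Q g).1) '' rankOne hB f
    set O₂ := (fun g => x (Q g).1 * y) '' rankOne hB f
    have hcard : ∀ w : C, ξ w = 1 → ((fun g => x (Q g).1 * w) '' rankOne hB f).ncard = 21 := by
      intro w hw
      refine (Set.InjOn.ncard_image fun g hg g' hg' e1 => ?_).trans (rankOne_card hB f hS.four)
      refine hinj g (rankOne_inv hB hg).1 g' (rankOne_inv hB hg').1 ?_
      have := congrArg ξ e1
      simpa [hw, hx.map, ← hQ g hg, ← hQ g' hg'] using this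
    have hdis : Disjoint O₁ O₂ := by
      rw [Set.disjoint_left]
      rintro _ ⟨g, hg, rfl⟩ ⟨g', hg', e1⟩
      have hgg : g = g' := hinj g (rankOne_inv hB hg).1 g' (rankOne_inv hB hg').1 (by
        have := congrArg ξ e1
        simpa [hS.z_map, hx.map, ← hQ g hg, ← hQ g' hg'] using this.symm)
      subst hgg
      exact hS.z_ne (mul_eq_left.1 e1)
    have hsub : O₁ ∪ O₂ ⊆ O := by
      rintro _ (⟨g, hg, rfl⟩ | ⟨g, hg, rfl⟩)
      · simpa using hmem g hg 1 (map_one ξ) (by simpa using hxP (Q g))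
      · exact hmem g hg y hy (hboth (Q g))
    have h2 := Set.ncard_le_ncard hsub (Set.toFinite _)
    rw [Set.ncard_union_eq hdis (Set.toFinite _) (Set.toFinite _), h22,
      show O₂.ncard = 21 from hcard y hy,
      show O₁.ncard = 21 by simpa [O₁] using hcard 1 (map_one ξ)] at h2
    omega
  obtain ⟨s, hs⟩ := hS.surj (ξ h⁻¹)
  refine ⟨⟨s.1 p, fun e => hp (by simpa using e), by rw [s.2.1]; exact hp2⟩, ?_⟩
  show c = x (s.1 p)
  rw [← hx.conj h⁻¹ s p hs.symm, ← hxp]
  group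

end Cfsg.Agent.M22Cent
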