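import Cfsg.Agent.M22Cent.Config
import Cfsg.Agent.ThreeTrans.Y332.Iso
import Cfsg.Agent.FischerTypes.M22

/-!
# The presented Fi₂₂ inside a group with such a class, and a component of the commuting graph
-/

set_option autoImplicit false

open Cfsg Cfsg.Agent.Classical Cfsg.Agent.Classical.Herm Module
open Cfsg.Agent.ThreeTrans

universe u

namespace Cfsg.Agent.M22Cent

open Cfsg.Spor Cfsg.Spor.Fi22

/-- The presented group. -/
abbrev X : Type := Cfsg.Spor.Fi22

/-- Its transpositions. -/
abbrev T : Set X := FischerTypes.F22.D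

theorem finite_X : Finite X := Cfsg.Agent.CosetCert.Fi22Order.card_bound.1

theorem t_eq : FischerTypes.F22.t = PresentedGroup.of Gen.a := rfl

theorem T_group : IsThreeTranspositionGroup T :=
  ⟨Fi22Trans.isClass.1.1, fun g d hd => hd.trans (isConj_iff.2 ⟨g, rfl⟩), Fi22Trans.isClass.1.2.2⟩

theorem T_class : IsThreeTranspositionClass T := Fi22Trans.isClass.1

variable {G : Type u} [Group G] [Finite G] {D : Set G}

/-- A pair of members that do not commute and have a common neighbour. -/
theorem Loc.exists_pair (hL : Loc D) {d : G} (hd : d ∈ D) :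
    ∃ a ∈ D, ∃ b ∈ D, ¬ Commute a b ∧ (pairPerp D a b).Nonempty := by
  obtain ⟨F, _, θ, -, hB, hmod⟩ := hL.model
  obtain ⟨tp, hM⟩ := hmod d hd
  obtain ⟨a, ha, haa, -⟩ := UModel.exists_iso hB (0 : Fin 6 → F) 0 0 0
  obtain ⟨g, hgg, hag⟩ := Herm.exists_hyp_partner hB.herm ha haa
  set A : UModel.Pt (hermB 6 θ) := ⟨a, ha, haa⟩
  set B : UModel.Pt (hermB 6 θ) := ⟨g, fun h => by rw [h, map_zero] at hag; exact zero_ne_one hag, hgg⟩
  have hA := UModel.tp_mem hM A
  have hB' := UModel.tp_mem hM B
  exact ⟨_, hA.1, _, hB'.1, fun h => by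
    have := (hM.comm_iff A B).1 h
    exact zero_ne_one (this.symm.trans hag), d, hd, hA.2.2.symm, hB'.2.2.symm⟩

/-- The presented group maps injectively, the transpositions going to members. -/
theorem Loc.exists_embed (hL : Loc D) {d : G} (hd : d ∈ D) :
    ∃ φ : X →* G, Function.Injective φ ∧ ∀ x ∈ T, φ x ∈ D := by
  obtain ⟨a, ha, b, hb, hab, hne⟩ := hL.exists_pair hd
  obtain ⟨n, hn⟩ := exists_cfg hL ha hb hab hne
  have hr := rels_of hL hn
  set f : Gen → G := fun x => n (Y332.num x) with hf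
  have hrel : ∀ r ∈ coxRelators edges ∪ {r | r ∈ extra}, FreeGroup.lift f r = 1 := by
    rintro r (⟨x, -, y, -, rfl⟩ | hr')
    · rw [map_pow, map_mul, FreeGroup.lift_apply_of, FreeGroup.lift_apply_of, Y332.label_eq]
      split_ifs with hxy hadj
      · subst hxy
        rw [pow_one]
        exact hr.sq _ (Y332.num_lt x)
      · obtain ⟨z, hz, h1, h2⟩ := adj_witness _ (Y332.num_lt x) _ (Y332.num_lt y) hadj
        refine (hL.cube (hn.mem _ (Y332.num_lt x)) (hn.mem _ (Y332.num_lt y)) (hn.mem z hz)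
          (fun h => ?_) ((hn.comm z hz _ (Y332.num_lt x)).2 h1) ((hn.comm z hz _ (Y332.num_lt y)).2 h2)).1
        rw [(hn.comm _ (Y332.num_lt x) _ (Y332.num_lt y)).1 h] at hadj
        simp at hadj
      · have h := hr.comm _ (Y332.num_lt x) _ (Y332.num_lt y) (by simpa using hadj)
        show (n (Y332.num x) * n (Y332.num y)) ^ 2 = 1
        rw [h.mul_pow, pow_two, pow_two, hr.sq _ (Y332.num_lt x), one_mul, hr.sq _ (Y332.num_lt y)]
    · simp only [extra, List.mem_cons, List.not_mem_nil, or_false, Set.mem_ofPred_eq] at hr'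
      rcases hr' with rfl | rfl | rfl
      · simp only [map_pow, map_mul, FreeGroup.lift_apply_of, hf, Y332.num]
        have := pow_spider hL hn
        simpa [Y332.ev, Y332.ws, mul_assoc] using this
      · simp only [map_pow, map_mul, FreeGroup.lift_apply_of, hf, Y332.num]
        have h := (pow_x' hL hn).1
        rw [Y332.ev_pw] at h
        have hinv : Y332.ev n [7, 0, 1, 2, 3, 4, 5] ^ 9 = 1 := by
          rw [show [7, 0, 1, 2, 3, 4, 5] = Y332.wx'.reverse from rfl, Y332.ev_reverse hr (by decide),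
            inv_pow, h, inv_one]
        have e : n 0 * n 1 * n 2 * n 3 * n 4 * n 5 * n 7 =
            n 7 * Y332.ev n [7, 0, 1, 2, 3, 4, 5] * (n 7)⁻¹ := by
          rw [inv_eq_of_mul_eq_one_right (hr.sq 7 (by norm_num))]
          simp only [Y332.ev_cons, Y332.ev_nil, mul_one, ← mul_assoc]
          rw [hr.sq 7 (by norm_num), one_mul]
        rw [e, conj_pow, hinv, mul_one, mul_inv_cancel]
      · simp only [map_pow, map_mul, FreeGroup.lift_apply_of, hf, Y332.num]
        have := (pow_x hL hn).1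
        rw [Y332.ev_pw] at this
        simpa [Y332.ev, Y332.wx, mul_assoc] using this
  set φ := PresentedGroup.toGroup hrel
  have hφ : ∀ x, φ (PresentedGroup.of x) = n (Y332.num x) := fun x => PresentedGroup.toGroup.of hrel
  have : IsSimpleGroup X := CosetCert.Fi22Order.order_and_simple.1
  refine ⟨φ, ?_, fun x hx => ?_⟩
  · rw [← MonoidHom.ker_eq_bot_iff]
    refine (φ.normal_ker.eq_bot_or_eq_top).resolve_right fun h => ?_
    refine hL.ne _ (hn.mem 0 (by norm_num)) ?_
    have h' : PresentedGroup.of Gen.a ∈ φ.ker := h ▸ Subgroup.mem_top _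
    rwa [MonoidHom.mem_ker, hφ] at h'
  · obtain ⟨g, rfl⟩ := isConj_iff.1 hx
    rw [map_mul, map_mul, map_inv]
    refine hL.conj _ _ ?_
    rw [t_eq, hφ]
    exact hn.mem 0 (by norm_num)

variable {φ : X →* G}

/-- The members commuting with the image of a transposition are images of transpositions. -/
theorem Loc.dperp_image (hL : Loc D) (hφ : Function.Injective φ) (hT : ∀ x ∈ T, φ x ∈ D) {x : X}
    (hx : x ∈ T) : dperp D (φ x) = φ '' dperp T x := by
  have := finite_X
  obtain ⟨F, _, θ, hF, hB, hmod⟩ := hL.model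
  obtain ⟨tp, hM⟩ := hmod _ (hT x hx)
  have : Finite F := hB.finF
  have := Fintype.ofFinite F
  have h693 : (dperp D (φ x)).ncard = 693 :=
    (card_model (by rw [← Nat.card_eq_fintype_card, hF]) hB hM).1
  refine (Set.eq_of_subset_of_ncard_le ?_ ?_ (Set.toFinite _)).symm
  · rintro _ ⟨y, ⟨hy, hne, hc⟩, rfl⟩
    exact ⟨hT y hy, fun h => hne (hφ h), hc.map φ⟩
  · rw [Set.ncard_image_of_injective _ hφ, h693, (counts T_group FischerTypes.F22.isM22 x hx).1]

end Cfsg.Agent.M22Cent
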