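import Cfsg.Agent.M22Cent.Embed
import Cfsg.Agent.ThreeTrans.PairFitting
import Cfsg.Agent.ThreeTrans.PairExtraM22
import Cfsg.Agent.ThreeTrans.InvolM22

/-!
# Facts about the products of two commuting transpositions of Fi₂₂
-/

set_option autoImplicit false

open Cfsg
open Cfsg.Agent.ThreeTrans

namespace Cfsg.Agent.M22Cent

attribute [local instance] finite_X

/-- The type. -/
theorem T_type : IsOfTypeM22 X T := FischerTypes.F22.isM22

theorem T_prim : IsPrimitiveUnderConj T := FischerTypes.F22.primitive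

theorem T_card : T.ncard = 3510 := by
  rw [← Nat.card_coe_set_eq]; exact Fi22Trans.isClass.2.1

theorem T_noTwins : NoTwins T := by
  have := finite_X
  exact (m22Data T_group T_type).noTwins

/-- The products of two commuting transpositions. -/
def J : Set X := {y | ∃ p ∈ T, ∃ q ∈ dperp T p, y = p * q}

theorem J_sq {y : X} (hy : y ∈ J) : y * y = 1 := by
  obtain ⟨p, hp, q, hq, rfl⟩ := hy
  rw [hq.2.2.symm.mul_mul_mul_comm, mul_self T_group.1 hp, mul_self T_group.1 hq.1, one_mul]

theorem J_notMem {y : X} (hy : y ∈ J) : y ∉ T := by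
  have := finite_X
  intro hyT
  obtain ⟨p, hp, q, hq, rfl⟩ := hy
  have h := (involution_classes_M22 T_group T_prim T_type).2 1 2 (p * q) le_rfl (by norm_num)
    (by norm_num) (by norm_num) ⟨_, factor_one hyT⟩ ⟨_, factor_two hp hq⟩
  omega

/-- Every element of square one commutes with a transposition. -/
theorem exists_commute {y : X} (hy : y * y = 1) : ∃ x ∈ T, Commute y x := by
  have := finite_X
  exact exists_commute_of_perfect T_group.2.1 (perfect_M22 T_group T_type)
    (by rw [T_card]) hy

/-- The pair of a product is unique. -/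
theorem pair_conj {p q g : X} (hp : p ∈ T) (hq : q ∈ dperp T p) (hg : Commute g (p * q)) :
    g * p * g⁻¹ = p ∨ g * p * g⁻¹ = q := by
  have h' : Factor T 2 (p * q) ([p, q].map fun x => g * x * g⁻¹) := by
    have h := (factor_two hp hq).conj T_group.2.1 g
    rwa [hg.eq, mul_inv_cancel_right] at h
  have := (Factor.pair T_group.1 T_noTwins h' (factor_two hp hq) (g * p * g⁻¹)).1 (by simp)
  simpa using this

/-- The centraliser of a product has no nontrivial normal subgroup of odd order. -/
theorem odd_normal_trivial {p q : X} (hp : p ∈ T) (hq : q ∈ dperp T p) (Q : Subgroup X)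
    (hQ : Q ≤ Subgroup.centralizer ({p * q} : Set X))
    (hn : ∀ c ∈ Subgroup.centralizer ({p * q} : Set X), ∀ x ∈ Q, c * x * c⁻¹ ∈ Q)
    (hodd : Odd (Nat.card Q)) : Q = ⊥ := by
  have := finite_X
  obtain ⟨E, hE, hEC, hindex, hEn, F, hFld, hFt, hF, hquot⟩ :=
    exists_pairRadical T_group T_prim T_type hp hq
  obtain ⟨hKC, -⟩ := pair_centralizer T_group T_class T_type hp hq
  have hfit := pair_generalizedFitting T_group T_type hp hq hE hEC hindex hF hquot hKC
  set C := Subgroup.centralizer ({p * q} : Set X)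
  have hQn : (Q.subgroupOf C).Normal := ⟨fun x hx c => by
    rw [Subgroup.mem_subgroupOf] at hx ⊢
    exact hn c c.2 x hx⟩
  have hdis : ∀ y : X, y ∈ Q → y ∈ E → y = 1 := by
    intro y hyQ hyE
    have h1 : orderOf y ∣ Nat.card Q :=
      (Subgroup.orderOf_mk y hyQ) ▸ orderOf_dvd_natCard _
    have h2 : orderOf y ∣ 2 ^ 10 := hE.card ▸ (Subgroup.orderOf_mk y hyE) ▸ orderOf_dvd_natCard _
    obtain ⟨k, -, hk⟩ := (Nat.dvd_prime_pow Nat.prime_two).1 h2
    rcases k with _ | k
    · exact orderOf_eq_one_iff.1 (by simpa using hk)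
    · exfalso
      rw [hk] at h1
      have : 2 ∣ Nat.card Q := (dvd_pow_self 2 (Nat.succ_ne_zero k)).trans h1
      exact Nat.not_even_iff_odd.2 hodd (even_iff_two_dvd.2 this)
  rw [eq_bot_iff]
  intro y hy
  have hcen : (⟨y, hQ hy⟩ : C) ∈ Subgroup.centralizer (generalizedFittingSubgroup C : Set C) := by
    rw [hfit, Subgroup.mem_centralizer_iff]
    intro e he
    have heE : (e : X) ∈ E := Subgroup.mem_subgroupOf.1 he
    refine Subtype.ext ?_
    show (e : X) * y = y * e
    have h1 : (e : X) * y * (e : X)⁻¹ * y⁻¹ = 1 := by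
      refine hdis _ (mul_mem (hn e e.2 y hy) (inv_mem hy)) ?_
      rw [show (e : X) * y * (e : X)⁻¹ * y⁻¹ = e * (y * (e : X)⁻¹ * y⁻¹) by group]
      refine mul_mem heE ?_
      exact Subgroup.mem_subgroupOf.1 (hEn.conj_mem e⁻¹ (inv_mem he) ⟨y, hQ hy⟩)
    rwa [mul_inv_eq_one, mul_inv_eq_iff_eq_mul] at h1
  have hyE := Cfsg.Agent.Layer.centralizer_generalizedFitting_le hcen
  rw [hfit, Subgroup.mem_subgroupOf] at hyE
  exact Subgroup.mem_bot.2 (hdis y hy hyE)

/-- At most six transpositions multiply a given element, commuting, into a product of two. -/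
theorem ncard_shift (k : X) (hk : k ∉ T) :
    {f | f ∈ T ∧ Commute f k ∧ f * k ∈ J}.ncard ≤ 6 := by
  classical
  have := finite_X
  set S := {f | f ∈ T ∧ Commute f k ∧ f * k ∈ J}
  have hfac : ∀ f ∈ S, ∃ l, Factor T 3 k l ∧ f ∈ l := by
    rintro f ⟨hf, hfk, p, hp, q, hq, e⟩
    have hff := mul_self T_group.1 hf
    have hk' : k = f * (p * q) := by rw [← e, ← mul_assoc, hff, one_mul]
    have hfpq : Commute f (p * q) := by
      rw [← e]; exact (Commute.refl f).mul_right hfk
    rcases eq_or_ne f p with rfl | hfp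
    · exact absurd hq.1 (by rw [hk', ← mul_assoc, hff, one_mul] at hk; exact hk)
    rcases eq_or_ne f q with rfl | hfq
    · exact absurd hp (by rw [hk', hq.2.2.eq, ← mul_assoc, hff, one_mul] at hk; exact hk)
    have hfp' : Commute f p := by
      rcases pair_conj hp hq hfpq with h | h
      · exact mul_inv_eq_iff_eq_mul.1 h
      · by_contra hnc
        have h3 : f * p * f = p * f * p := braid T_group.1 hf hp hnc
        rw [inv_eq T_group.1 hf, h3] at h
        have hc : Commute p (p * f * p) := h ▸ hq.2.2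
        refine hnc ?_
        have := hc.eq
        rw [← mul_assoc, ← mul_assoc, mul_self T_group.1 hp, one_mul, mul_assoc (p * f) p p,
          mul_self T_group.1 hp, mul_one] at this
        exact this
    have hfq' : Commute f q := by
      have h' := hfp'.mul_right hfpq
      rwa [← mul_assoc, mul_self T_group.1 hp, one_mul] at h'
    refine ⟨[f, p, q], ?_, by simp⟩
    rw [hk', ← mul_assoc]
    exact factor_three hf ⟨hp, Ne.symm hfp, hfp'⟩ ⟨⟨hq.1, Ne.symm hfq, hfq'⟩, hq.2.1, hq.2.2⟩
  rcases S.eq_empty_or_nonempty with h | ⟨f₀, hf₀⟩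
  · rw [h]; simp
  obtain ⟨l₀, hl₀, -⟩ := hfac f₀ hf₀
  obtain ⟨l₂, hl₂, -, hall⟩ := two_factorisations T_group T_type.1 (m22Data T_group T_type) hl₀
  refine (Set.ncard_le_ncard (t := ↑(l₀ ++ l₂).toFinset) (fun f hf => ?_) (Set.toFinite _)).trans ?_
  · obtain ⟨l, hl, hfl⟩ := hfac f hf
    rw [Finset.mem_coe, List.mem_toFinset, List.mem_append]
    rcases hall l hl with h | h
    · exact Or.inl ((h f).1 hfl)
    · exact Or.inr ((h f).1 hfl)
  · rw [Set.ncard_coe_finset]
    refine (List.toFinset_card_le _).trans ?_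
    rw [List.length_append, hl₀.2.1, hl₂.2.1]

/-- The elements commuting with a transposition and turning into a product of two by it. -/
theorem ncard_K {x : X} (hx : x ∈ T) :
    {k | Commute k x ∧ x * k ∈ J}.ncard ≤ 125433 := by
  classical
  have := finite_X
  obtain ⟨h693, h180, -⟩ := counts T_group T_type x hx
  set S := dperp T x
  set P : Set (X × X) := {pq | pq.1 ∈ S ∧ pq.2 ∈ dperp S pq.1}
  have hsub : {k | Commute k x ∧ x * k ∈ J} ⊆ S ∪ (fun pq : X × X => x * (pq.1 * pq.2)) '' P := by
    rintro k ⟨hkx, p, hp, q, hq, e⟩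
    have hxx := mul_self T_group.1 hx
    have hk' : k = x * (p * q) := by rw [← e, ← mul_assoc, hxx, one_mul]
    rcases eq_or_ne x p with rfl | hxp
    · left
      rw [hk', ← mul_assoc, hxx, one_mul]
      exact hq
    rcases eq_or_ne x q with rfl | hxq
    · left
      rw [hk', hq.2.2.eq, ← mul_assoc, hxx, one_mul]
      exact ⟨hp, hq.2.1.symm, hq.2.2.symm⟩
    right
    refine ⟨(p, q), ?_, hk'.symm⟩
    have hc : Commute x (p * q) := by rw [← e]; exact (Commute.refl x).mul_right hkx.symm
    have hxp' : Commute x p := by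
      rcases pair_conj hp hq hc with h | h
      · exact mul_inv_eq_iff_eq_mul.1 h
      · by_contra hnc
        have h3 : x * p * x = p * x * p := braid T_group.1 hx hp hnc
        rw [inv_eq T_group.1 hx, h3] at h
        have hcc : Commute p (p * x * p) := h ▸ hq.2.2
        refine hnc ?_
        have := hcc.eq
        rw [← mul_assoc, ← mul_assoc, mul_self T_group.1 hp, one_mul, mul_assoc (p * x) p p,
          mul_self T_group.1 hp, mul_one] at this
        exact this
    have hxq' : Commute x q := by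
      have h' := hxp'.mul_right hc
      rwa [← mul_assoc, mul_self T_group.1 hp, one_mul] at h'
    exact ⟨⟨hp, Ne.symm hxp, hxp'⟩, ⟨hq.1, Ne.symm hxq, hxq'⟩, hq.2.1, hq.2.2⟩
  have hP : P.ncard ≤ 124740 := by
    have e : P = ↑((Set.toFinite S).toFinset.biUnion fun p =>
        (Set.toFinite (dperp S p)).toFinset.image (Prod.mk p)) := by
      ext ⟨u, v⟩
      simp [P, and_comm]
    rw [e, Set.ncard_coe_finset]
    refine (Finset.card_biUnion_le).trans ?_
    refine (Finset.sum_le_card_nsmul _ _ 180 fun p hp => ?_).trans ?_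
    · refine Finset.card_image_le.trans ?_
      rw [← Set.ncard_eq_toFinset_card, h180 p ((Set.Finite.mem_toFinset _).1 hp)]
    · rw [← Set.ncard_eq_toFinset_card, h693]; rfl
  have hu := Set.ncard_le_ncard hsub (Set.toFinite _)
  have hun := Set.ncard_union_le S ((fun pq : X × X => x * (pq.1 * pq.2)) '' P)
  have him := Set.ncard_image_le (f := fun pq : X × X => x * (pq.1 * pq.2)) (Set.toFinite P)
  have hS : S.ncard = 693 := h693
  omega

/-- The number of products. -/
theorem ncard_J : 1216215 ≤ J.ncard := by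
  classical
  have := finite_X
  have : Fintype X := Fintype.ofFinite X
  set P : Finset (X × X) := Finset.univ.filter fun pq => pq.1 ∈ T ∧ pq.2 ∈ dperp T pq.1
  have hP : P.card = 2432430 := by
    have e : P = (Set.toFinite T).toFinset.biUnion fun p =>
        (Set.toFinite (dperp T p)).toFinset.image (Prod.mk p) := by
      ext ⟨u, v⟩
      simp [P]
    rw [e, Finset.card_biUnion, Finset.sum_congr rfl fun p hp => by
      rw [Finset.card_image_of_injective _ fun _ _ h => (Prod.mk.inj h).2,
        ← Set.ncard_eq_toFinset_card,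
        (counts T_group T_type p ((Set.Finite.mem_toFinset _).1 hp)).1],
      Finset.sum_const, ← Set.ncard_eq_toFinset_card, T_card]
    · rfl
    · intro i _ j _ hij
      rw [Function.onFun, Finset.disjoint_left]
      intro q hq1 hq2
      simp only [Finset.mem_image] at hq1 hq2
      obtain ⟨v, -, rfl⟩ := hq1
      obtain ⟨w, -, e⟩ := hq2
      exact hij (Prod.mk.inj e).1.symm
  have hJ : J = ↑(P.image fun pq => pq.1 * pq.2) := by
    ext y
    simp only [J, P, Finset.coe_image, Set.mem_image, Set.mem_ofPred_eq, Finset.mem_coe,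
      Finset.mem_filter, Finset.mem_univ, true_and]
    constructor
    · rintro ⟨p, hp, q, hq, rfl⟩; exact ⟨(p, q), ⟨hp, hq⟩, rfl⟩
    · rintro ⟨⟨p, q⟩, ⟨hp, hq⟩, rfl⟩; exact ⟨p, hp, q, hq, rfl⟩
  rw [hJ, Set.ncard_coe_finset]
  have h2 := Finset.card_le_mul_card_image (f := fun pq : X × X => pq.1 * pq.2) P 2 fun y hy => ?_
  · omega
  · obtain ⟨⟨p, q⟩, hpq, rfl⟩ := Finset.mem_image.1 hy
    simp only [P, Finset.mem_filter, Finset.mem_univ, true_and] at hpq
    refine (Finset.card_le_card (t := {(p, q), (q, p)}) ?_).trans Finset.card_le_two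
    rintro ⟨u, v⟩ huv
    simp only [P, Finset.mem_filter, Finset.mem_univ, true_and] at huv
    obtain ⟨⟨hu, hv⟩, e⟩ := huv
    have h := fun z => Factor.pair T_group.1 T_noTwins (factor_two hu hv)
      (e ▸ factor_two hpq.1 hpq.2) z
    have h1 := (h u).1 (by simp)
    have h2 := (h v).1 (by simp)
    simp only [List.mem_cons, List.not_mem_nil, or_false] at h1 h2
    rcases h1 with rfl | rfl <;> rcases h2 with rfl | rfl
    · exact absurd rfl hv.2.1
    · simp
    · simp
    · exact absurd rfl hv.2.1

end Cfsg.Agent.M22Cent
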