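import Cfsg.Agent.Invol.ZStar
import Cfsg.Agent.Invol.Pair
import Mathlib.GroupTheory.SchurZassenhaus

/-!
# An involution isolated modulo a central involution, and actions without fixed points
-/

set_option autoImplicit false

open Cfsg

namespace Cfsg.Agent.M22Cent

variable {M : Type*} [Group M] [Finite M]

/-- The Z*-theorem modulo a central involution: the commutators with the involution lie, up to the
central one, in a normal subgroup of odd order. -/
theorem exists_odd_part {j a : M} (hjc : j ∈ Subgroup.center M) (hj : orderOf j = 2)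
    [(Subgroup.zpowers j).Normal]
    (hiso : IsIsolatedInvolution (a : M ⧸ Subgroup.zpowers j)) :
    ∃ O : Subgroup M, O.Normal ∧ Odd (Nat.card O) ∧
      ∀ g : M, a * g * a⁻¹ * g⁻¹ ∈ O ∨ a * g * a⁻¹ * g⁻¹ * j ∈ O := by
  classical
  set Z := Subgroup.zpowers j with hZ
  have hj2 : j * j = 1 := by rw [← sq, ← hj]; exact pow_orderOf_eq_one j
  have hj1 : j ≠ 1 := fun h => by rw [h, orderOf_one] at hj; omega
  have hZmem : ∀ z ∈ Z, z = 1 ∨ z = j := by
    intro z hz
    rw [hZ, Subgroup.mem_zpowers_iff] at hz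
    obtain ⟨n, rfl⟩ := hz
    have hj2z : j ^ (2 : ℤ) = 1 := by
      rw [show (2 : ℤ) = 1 + 1 from rfl, zpow_add, zpow_one, hj2]
    rcases Int.emod_two_eq_zero_or_one n with h | h
    · exact Or.inl (by rw [← Int.mul_ediv_add_emod n 2, h, add_zero, zpow_mul, hj2z, one_zpow])
    · exact Or.inr (by
        rw [← Int.mul_ediv_add_emod n 2, h, zpow_add, zpow_mul, hj2z, one_zpow, zpow_one, one_mul])
  set f := QuotientGroup.mk' Z with hf
  set k := Nat.card (Cfsg.oddCore (M ⧸ Z)) with hk
  have hkodd : Odd k := by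
    rw [← Nat.not_even_iff_odd, even_iff_two_dvd]
    exact Core.not_dvd_card_pPrimeCore
  set R := (Cfsg.oddCore (M ⧸ Z)).comap f with hR
  have : R.Normal := Subgroup.Normal.comap inferInstance f
  have hZR : Z ≤ R := fun x hx => by
    rw [hR, Subgroup.mem_comap, hf, QuotientGroup.mk'_apply, (QuotientGroup.eq_one_iff x).2 hx]
    exact one_mem _
  have hZcard : Nat.card Z = 2 := by rw [hZ, Nat.card_zpowers, hj]
  have hRcard : Nat.card R = 2 * k := by
    have h1 := Subgroup.card_mul_index R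
    rw [hR, Subgroup.index_comap_of_surjective _ (QuotientGroup.mk'_surjective Z),
      Subgroup.card_eq_card_quotient_mul_card_subgroup Z, hZcard,
      ← Subgroup.card_mul_index (Cfsg.oddCore (M ⧸ Z))] at h1
    refine Nat.eq_of_mul_eq_mul_right (Nat.pos_of_ne_zero Subgroup.index_ne_zero_of_finite)
      (h1.trans ?_)
    rw [hk]; ring
  set Z' := Z.subgroupOf R
  have hZ'card : Nat.card Z' = 2 := by
    rw [Nat.card_congr (Subgroup.subgroupOfEquivOfLe hZR).toEquiv, hZcard]
  have hidx : Z'.index = k := by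
    have h1 := Subgroup.card_mul_index Z'
    rw [hZ'card, hRcard] at h1
    omega
  obtain ⟨H, hH⟩ := Subgroup.exists_right_complement'_of_coprime (N := Z')
    (by rw [hZ'card, hidx, Nat.coprime_two_left]; exact hkodd)
  have hHcard : Nat.card H = k := by
    have h1 := hH.card_mul
    rw [hZ'card, hRcard] at h1
    omega
  set O := H.map R.subtype with hO
  have hOcard : Nat.card O = k := by
    rw [hO, Subgroup.card_map_of_injective R.subtype_injective, hHcard]
  have hjk : j ^ k = j := by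
    obtain ⟨m, hm⟩ := hkodd
    rw [hm, pow_succ, pow_mul, pow_two, hj2, one_pow, one_mul]
  have hsplit : ∀ r ∈ R, r ∈ O ∨ r * j ∈ O := by
    intro r hr
    obtain ⟨⟨z, h⟩, e⟩ := hH.2 (⟨r, hr⟩ : R)
    have e' : ((z : R) : M) * ((h : R) : M) = r := congrArg Subtype.val e
    rcases hZmem _ (Subgroup.mem_subgroupOf.1 z.2) with h1 | h1 <;> rw [h1] at e'
    · left
      rw [one_mul] at e'
      exact ⟨h, h.2, e'⟩
    · right
      refine ⟨h, h.2, ?_⟩
      show ((h : R) : M) = r * j
      rw [← e', ← (Subgroup.mem_center_iff.1 hjc _), mul_assoc, hj2, mul_one]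
  have hpow : ∀ r ∈ R, r ∈ O ↔ r ^ k = 1 := by
    intro r hr
    have h1 : ∀ y ∈ O, y ^ k = 1 := fun y hy => by
      have h := pow_card_eq_one' (x := (⟨y, hy⟩ : O))
      rw [hOcard] at h
      exact congrArg Subtype.val h
    refine ⟨h1 r, fun h => (hsplit r hr).resolve_right fun h' => hj1 ?_⟩
    have h2 := h1 _ h'
    rw [(show Commute r j from (Subgroup.mem_center_iff.1 hjc r)).mul_pow, h, one_mul, hjk] at h2
    exact h2
  refine ⟨O, ⟨fun y hy g => ?_⟩, hOcard ▸ hkodd, fun g => hsplit _ ?_⟩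
  · have hyR : y ∈ R := by
      obtain ⟨h, -, rfl⟩ := hy
      exact h.2
    refine (hpow _ (Subgroup.Normal.conj_mem inferInstance y hyR g)).2 ?_
    rw [conj_pow, (hpow y hyR).1 hy, mul_one, mul_inv_cancel]
  · have h := Cfsg.Agent.Invol.zstar hiso (g : M ⧸ Z)
    rw [← QuotientGroup.mk_inv, ← QuotientGroup.mk_inv, ← QuotientGroup.mk_mul,
      ← QuotientGroup.mk_mul, ← QuotientGroup.mk_mul] at h
    exact h

omit [Finite M] in
/-- An involution without fixed points on a finite subgroup it normalises inverts it. -/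
theorem inverts_of_fixed (O : Subgroup M) [Finite O] {a : M} (ha : a * a = 1)
    (hn : ∀ r ∈ O, a * r * a ∈ O) (hfix : ∀ r ∈ O, Commute a r → r = 1) :
    ∀ r ∈ O, a * r * a = r⁻¹ := by
  intro r hr
  let ψ : O → O := fun s => ⟨(s : M)⁻¹ * (a * s * a), mul_mem (inv_mem s.2) (hn s s.2)⟩
  have hinj : Function.Injective ψ := by
    intro s t h
    have h' : (s : M)⁻¹ * (a * s * a) = (t : M)⁻¹ * (a * t * a) := congrArg Subtype.val h
    have h2 := hfix ((t : M) * (s : M)⁻¹) (mul_mem t.2 (inv_mem s.2)) (by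
      have e1 : (t : M) * (s : M)⁻¹ * (a * s * a) = a * t * a := by
        rw [mul_assoc, h', mul_inv_cancel_left]
      have e2 : a * ((t : M) * (s : M)⁻¹) * a = t * (s : M)⁻¹ := by
        calc a * ((t : M) * (s : M)⁻¹) * a = a * t * (a * a) * (s : M)⁻¹ * a := by
              rw [ha, mul_one]; simp only [mul_assoc]
          _ = (a * t * a) * (a * (s : M)⁻¹ * a) := by simp only [mul_assoc]
          _ = (t : M) * (s : M)⁻¹ * (a * s * a) * (a * (s : M)⁻¹ * a) := by rw [e1]
          _ = (t : M) * (s : M)⁻¹ * (a * (s * (a * a) * (s : M)⁻¹) * a) := by simp only [mul_assoc]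
          _ = _ := by rw [ha, mul_one, mul_inv_cancel, mul_one, ha, mul_one]
      show a * ((t : M) * (s : M)⁻¹) = (t : M) * (s : M)⁻¹ * a
      conv_rhs => rw [← e2, mul_assoc _ a a, ha, mul_one])
    exact Subtype.ext (mul_inv_eq_one.1 h2).symm
  obtain ⟨s, hs⟩ := Finite.surjective_of_injective hinj ⟨r, hr⟩
  have hs' : (s : M)⁻¹ * (a * s * a) = r := congrArg Subtype.val hs
  rw [← hs', mul_inv_rev, inv_inv, mul_inv_rev, mul_inv_rev, inv_eq_of_mul_eq_one_left ha]
  calc a * ((s : M)⁻¹ * (a * s * a)) * a = a * (s : M)⁻¹ * a * s * (a * a) := by simp only [mul_assoc]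
    _ = _ := by rw [ha, mul_one]; simp only [mul_assoc]

omit [Finite M] in
/-- An involution that inverts an element of odd order: the translate is a conjugate. -/
theorem exists_sqrt (O : Subgroup M) [Finite O] (hodd : Odd (Nat.card O)) {o : M} (ho : o ∈ O) :
    ∃ s ∈ Subgroup.zpowers o, s * s = o ∧ s ∈ O := by
  obtain ⟨m, hm⟩ := hodd
  have h := pow_card_eq_one' (x := (⟨o, ho⟩ : O))
  rw [hm] at h
  have h' : o ^ (2 * m + 1) = 1 := congrArg Subtype.val h
  refine ⟨o ^ (m + 1), pow_mem (Subgroup.mem_zpowers o) _, ?_, pow_mem ho _⟩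
  rw [← pow_add, show m + 1 + (m + 1) = 2 * m + 1 + 1 by ring, pow_succ, h', one_mul]

end Cfsg.Agent.M22Cent
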