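import Cfsg.Agent.M22Cent.Facts
import Cfsg.Agent.M22Cent.OddPart
import Cfsg.Agent.ThreeTrans.SimpleM22

/-!
# The centraliser of a product of two commuting members lies in the subgroup Fi₂₂

It is an odd normal subgroup times that part, by the Z*-theorem; the odd subgroup is the same for
all products with one fixed factor, hence inverted and centralised by that factor, hence trivial.
-/

set_option autoImplicit false

open Cfsg
open Cfsg.Agent.ThreeTrans
open scoped commutatorElement

universe u

namespace Cfsg.Agent.M22Cent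

attribute [local instance] finite_X

variable {G : Type u} [Group G] [Finite G] {D : Set G} (hL : Loc D) {φ : X →* G}
  (hφ : Function.Injective φ) (hT : ∀ x ∈ T, φ x ∈ D)

include hL hφ hT

/-- An element carrying one member of the component to another lies in the subgroup. -/
theorem mem_range_of_move {g : G} {x y : X} (hx : x ∈ T) (hy : y ∈ T) (h : g * φ x * g⁻¹ = φ y) :
    g ∈ φ.range := by
  obtain ⟨c, hc⟩ := isConj_iff.1 ((show IsConj FischerTypes.F22.t x from hx).symm.trans hy)
  suffices (φ c)⁻¹ * g ∈ φ.range by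
    have h2 := mul_mem (show φ c ∈ φ.range from ⟨c, rfl⟩) this
    rwa [mul_inv_cancel_left] at h2
  have hmem : (φ c)⁻¹ * g ∈ Subgroup.centralizer ({φ x} : Set G) := by
    refine Subgroup.mem_centralizer_singleton_iff.2 ?_
    rw [← hc, map_mul, map_mul, map_inv] at h
    calc (φ c)⁻¹ * g * φ x = (φ c)⁻¹ * (g * φ x * g⁻¹) * g := by group
      _ = φ x * ((φ c)⁻¹ * g) := by rw [h]; group
  rw [hL.cen _ (hT x hx), hL.dperp_image hφ hT hx, ← MonoidHom.map_closure] at hmem
  obtain ⟨z, -, hz⟩ := hmem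
  exact ⟨z, hz⟩

/-- Members in the subgroup belong to the component. -/
theorem mem_T_of_mem {y : X} (h : φ y ∈ D) : y ∈ T := by
  have hy : y * y = 1 := hφ (by rw [map_mul, map_one]; exact hL.sq _ h)
  obtain ⟨x, hx, hc⟩ := exists_commute hy
  rcases eq_or_ne y x with rfl | hne
  · exact hx
  · have hd : φ y ∈ dperp D (φ x) := ⟨h, fun e => hne (hφ e), (hc.map φ).symm⟩
    rw [hL.dperp_image hφ hT hx] at hd
    obtain ⟨z, hz, e⟩ := hd
    exact hφ e ▸ hz.1

/-- A member commuting with one of the component belongs to it. -/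
theorem exists_T_of_commute {x : X} (hx : x ∈ T) {e : G} (he : e ∈ D) (hc : Commute (φ x) e) :
    ∃ y ∈ T, φ y = e := by
  rcases eq_or_ne e (φ x) with rfl | hne
  · exact ⟨x, hx, rfl⟩
  · have hd : e ∈ dperp D (φ x) := ⟨he, hne, hc⟩
    rw [hL.dperp_image hφ hT hx] at hd
    obtain ⟨z, hz, e'⟩ := hd
    exact ⟨z, hz.1, e'⟩

/-- The normal odd subgroup of the centraliser of a product, with its properties. -/
theorem exists_odd_core {p q : X} (hp : p ∈ T) (hq : q ∈ dperp T p) :
    ∃ O : Subgroup G, O ≤ Subgroup.centralizer ({φ (p * q)} : Set G) ∧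
      (∀ c ∈ Subgroup.centralizer ({φ (p * q)} : Set G), ∀ r ∈ O, c * r * c⁻¹ ∈ O) ∧
      Odd (Nat.card O) ∧
      ∀ g ∈ Subgroup.centralizer ({φ (p * q)} : Set G),
        φ p * g * (φ p)⁻¹ * g⁻¹ ∈ O ∨ φ p * g * (φ p)⁻¹ * g⁻¹ * φ (p * q) ∈ O := by
  classical
  set M := Subgroup.centralizer ({φ (p * q)} : Set G) with hMdef
  have hpp := mul_self T_group.1 hp
  have hqq := mul_self T_group.1 hq.1
  have hJ : p * q ∈ J := ⟨p, hp, q, hq, rfl⟩
  have hj1 : φ (p * q) ≠ 1 := fun h => hq.2.1 (by
    have h' : p * q = 1 := hφ (by rw [h, map_one])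
    calc q = p * (p * q) := by rw [← mul_assoc, hpp, one_mul]
      _ = p := by rw [h', mul_one])
  have hj2 : φ (p * q) * φ (p * q) = 1 := by rw [← map_mul, J_sq hJ, map_one]
  have hpa : Commute (φ p) (φ (p * q)) :=
    ((Commute.refl p).mul_right hq.2.2).map φ
  let j : M := ⟨φ (p * q), Subgroup.mem_centralizer_singleton_iff.2 rfl⟩
  let a : M := ⟨φ p, Subgroup.mem_centralizer_singleton_iff.2 hpa.eq⟩
  have hjc : j ∈ Subgroup.center M := Subgroup.mem_center_iff.2 fun g =>
    Subtype.ext (Subgroup.mem_centralizer_singleton_iff.1 g.2)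
  have hjo : orderOf j = 2 := orderOf_eq_prime (by rw [sq]; exact Subtype.ext hj2)
    fun h => hj1 (congrArg Subtype.val h)
  have hn : (Subgroup.zpowers j).Normal := by
    refine ⟨fun z hz g => ?_⟩
    rwa [(Subgroup.mem_center_iff.1 ((Subgroup.zpowers_le.2 hjc) hz) g), mul_inv_cancel_right]
  have hzmem : ∀ z ∈ Subgroup.zpowers j, (z : G) = 1 ∨ (z : G) = φ (p * q) := by
    intro z hz
    rw [Subgroup.mem_zpowers_iff] at hz
    obtain ⟨n, rfl⟩ := hz
    have hj2z : j ^ (2 : ℤ) = 1 := by
      rw [show (2 : ℤ) = 1 + 1 from rfl, zpow_add, zpow_one]; exact Subtype.ext hj2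
    rcases Int.emod_two_eq_zero_or_one n with h | h
    · exact Or.inl (by rw [← Int.mul_ediv_add_emod n 2, h, add_zero, zpow_mul, hj2z, one_zpow]; rfl)
    · exact Or.inr (by
        rw [← Int.mul_ediv_add_emod n 2, h, zpow_add, zpow_mul, hj2z, one_zpow, zpow_one, one_mul])
  have hiso : IsIsolatedInvolution (a : M ⧸ Subgroup.zpowers j) := by
    refine ⟨orderOf_eq_prime ?_ ?_, fun gb hc => ?_⟩
    · rw [sq, ← QuotientGroup.mk_mul, show a * a = 1 from Subtype.ext (hL.sq _ (hT p hp))]; rfl
    · rw [ne_eq, QuotientGroup.eq_one_iff]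
      intro h
      rcases hzmem a h with h1 | h1
      · exact hL.ne _ (hT p hp) h1
      · exact J_notMem hJ (hφ h1 ▸ hp)
    obtain ⟨g, rfl⟩ := QuotientGroup.mk_surjective gb
    rw [← QuotientGroup.mk_inv, ← QuotientGroup.mk_mul, ← QuotientGroup.mk_mul] at hc ⊢
    set e : G := (g : G) * φ p * (g : G)⁻¹ with he
    have heD : e ∈ D := hL.conj _ _ (hT p hp)
    have hee := hL.sq e heD
    have haa := hL.sq _ (hT p hp)
    have hgj : (g : G) * φ (p * q) * (g : G)⁻¹ = φ (p * q) := by
      rw [Subgroup.mem_centralizer_singleton_iff.1 g.2, mul_inv_cancel_right]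
    -- it is enough that `g` lies in the subgroup
    suffices hg : (g : G) ∈ φ.range by
      obtain ⟨c, hc'⟩ := hg
      have hcj : Commute c (p * q) := hφ (by
        rw [map_mul, map_mul φ (p * q), hc']; exact Subgroup.mem_centralizer_singleton_iff.1 g.2)
      rw [QuotientGroup.eq]
      rcases pair_conj hp hq hcj with h | h
      · have e' : g * a * g⁻¹ = a := Subtype.ext (by
          show (g : G) * φ p * (g : G)⁻¹ = φ p
          rw [← hc', ← map_inv, ← map_mul, ← map_mul, h])
        rw [e', inv_mul_cancel]; exact one_mem _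
      · have e' : g * a * g⁻¹ = a * j := Subtype.ext (by
          show (g : G) * φ p * (g : G)⁻¹ = φ p * φ (p * q)
          rw [← hc', ← map_inv, ← map_mul, ← map_mul, h, ← map_mul, ← mul_assoc, hpp, one_mul])
        rw [e', show (a * j)⁻¹ * a = j⁻¹ by group]
        exact inv_mem (Subgroup.mem_zpowers j)
    -- commuting modulo the central involution
    have hk : (φ p * e)⁻¹ * (e * φ p) = 1 ∨ (φ p * e)⁻¹ * (e * φ p) = φ (p * q) := by
      have h1 := hc.eq
      rw [← QuotientGroup.mk_mul, ← QuotientGroup.mk_mul, QuotientGroup.eq] at h1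
      exact hzmem _ h1
    rcases hk with h | h
    · obtain ⟨y, hy, hye⟩ := exists_T_of_commute hL hφ hT hp heD (inv_mul_eq_one.1 h)
      exact mem_range_of_move hL hφ hT hp hy hye.symm
    · -- a member swapping the two factors
      rw [inv_mul_eq_iff_eq_mul] at h
      have h2 : e * φ p * e⁻¹ = φ q := by
        rw [inv_eq_of_mul_eq_one_left hee, h]
        calc φ p * e * φ (p * q) * e = φ p * (e * φ (p * q)) * e := by simp only [mul_assoc]
          _ = φ p * (φ (p * q) * e) * e := by
            rw [show e * φ (p * q) = φ (p * q) * e by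
              rw [he]
              conv_lhs => rw [← hgj]
              conv_rhs => rw [← hgj]
              rw [show ∀ x y : G, (g : G) * x * (g : G)⁻¹ * ((g : G) * y * (g : G)⁻¹) =
                (g : G) * (x * y) * (g : G)⁻¹ from fun x y => by group,
                show ∀ x y : G, (g : G) * x * (g : G)⁻¹ * ((g : G) * y * (g : G)⁻¹) =
                (g : G) * (x * y) * (g : G)⁻¹ from fun x y => by group, hpa.eq]]
          _ = φ p * φ (p * q) * (e * e) := by simp only [mul_assoc]
          _ = φ q := by rw [hee, mul_one, ← map_mul, ← mul_assoc, hpp, one_mul]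
      obtain ⟨c, hc'⟩ := mem_range_of_move hL hφ hT hp hq.1 h2
      exact mem_range_of_move hL hφ hT hp (mem_T_of_mem hL hφ hT (hc' ▸ heD)) hc'.symm
  obtain ⟨O₀, hO₀n, hO₀odd, hO₀⟩ := exists_odd_part hjc hjo hiso
  refine ⟨O₀.map M.subtype, Subgroup.map_subtype_le _, ?_, ?_, fun g hg => ?_⟩
  · rintro c hc _ ⟨r, hr, rfl⟩
    exact ⟨⟨c, hc⟩ * r * (⟨c, hc⟩ : M)⁻¹, hO₀n.conj_mem r hr _, rfl⟩
  · rwa [Subgroup.card_map_of_injective M.subtype_injective]
  · rcases hO₀ ⟨g, hg⟩ with h | h
    · exact Or.inl ⟨_, h, rfl⟩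
    · exact Or.inr ⟨_, h, rfl⟩

/-- Odd subgroups of the centraliser of a product that it normalises meet the subgroup trivially and
are inverted by the two factors. -/
theorem inverted {p q d : X} (hp : p ∈ T) (hq : q ∈ dperp T p) (hd : d ∈ T) (hdj : Commute d (p * q))
    (O : Subgroup G)
    (hO : O ≤ Subgroup.centralizer ({φ (p * q)} : Set G))
    (hn : ∀ c ∈ Subgroup.centralizer ({φ (p * q)} : Set G), ∀ r ∈ O, c * r * c⁻¹ ∈ O)
    (hodd : Odd (Nat.card O)) :
    ∀ r ∈ O, φ d * r * φ d = r⁻¹ := by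
  have hQ : O.comap φ = ⊥ := by
    refine odd_normal_trivial hp hq _ (fun y hy => ?_) (fun c hc y hy => ?_) ?_
    · exact Subgroup.mem_centralizer_singleton_iff.2
        (hφ (by rw [map_mul φ y, map_mul φ (p * q)]; exact Subgroup.mem_centralizer_singleton_iff.1 (hO hy)))
    · show φ (c * y * c⁻¹) ∈ O
      rw [map_mul, map_mul, map_inv]
      refine hn _ (Subgroup.mem_centralizer_singleton_iff.2 ?_) _ hy
      rw [← map_mul φ c, ← map_mul φ (p * q), Subgroup.mem_centralizer_singleton_iff.1 hc]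
    · refine Odd.of_dvd_nat hodd ?_
      exact Subgroup.card_dvd_of_injective ((φ.comp (O.comap φ).subtype).codRestrict O fun y => y.2)
        fun x y h => Subtype.ext (hφ (congrArg Subtype.val h))
  have hdM : φ d ∈ Subgroup.centralizer ({φ (p * q)} : Set G) :=
    Subgroup.mem_centralizer_singleton_iff.2 (hdj.map φ).eq
  refine inverts_of_fixed O (hL.sq _ (hT d hd)) (fun r hr => ?_) fun r hr hc => ?_
  · have := hn _ hdM r hr
    rwa [hL.inv (hT d hd)] at this
  · have hmem : r ∈ Subgroup.centralizer ({φ d} : Set G) :=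
      Subgroup.mem_centralizer_singleton_iff.2 hc.symm.eq
    rw [hL.cen _ (hT d hd), hL.dperp_image hφ hT hd, ← MonoidHom.map_closure] at hmem
    obtain ⟨z, -, rfl⟩ := hmem
    have hz : z ∈ (⊥ : Subgroup X) := hQ ▸ Subgroup.mem_comap.2 hr
    rw [Subgroup.mem_bot.1 hz, map_one]

/-- The centraliser of a product of two commuting members lies in the subgroup. -/
theorem centralizer_J_le {y : X} (hy : y ∈ J) :
    Subgroup.centralizer ({φ y} : Set G) ≤ φ.range := by
  classical
  obtain ⟨p, hp, q, hq, rfl⟩ := hy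
  have hex := fun c (hc : c ∈ dperp T p) => exists_odd_core hL hφ hT hp hc
  choose! O hO hn hodd hzs using hex
  set a := φ p with ha
  have haa : a * a = 1 := hL.sq _ (hT p hp)
  have hainv : a⁻¹ = a := hL.inv (hT p hp)
  have hTp : ∀ c ∈ dperp T p, p ∈ dperp T c := fun c hc => ⟨hp, hc.2.1.symm, hc.2.2.symm⟩
  -- both factors invert
  have hinva : ∀ c ∈ dperp T p, ∀ r ∈ O c, a * r * a = r⁻¹ := fun c hc =>
    inverted hL hφ hT hp hc hp ((Commute.refl p).mul_right hc.2.2) (O c) (hO c hc) (hn c hc) (hodd c hc)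
  have hinvc : ∀ c ∈ dperp T p, ∀ d ∈ dperp T p, Commute c d → ∀ r ∈ O c, φ d * r * φ d = r⁻¹ :=
    fun c hc d hd hcd =>
      inverted hL hφ hT hp hc hd.1 (hd.2.2.symm.mul_right hcd.symm) (O c) (hO c hc) (hn c hc) (hodd c hc)
  -- the subgroup is the same along edges
  have hedge : ∀ c ∈ dperp T p, ∀ d ∈ dperp T p, Commute c d → O c ≤ O d := by
    intro c hc d hd hcd r hr
    have hi1 := hinva c hc r hr
    have hi2 := hinvc c hc d hd hcd r hr
    have hda : φ d * a = a * φ d := (hd.2.2.symm.map φ).eq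
    have hrM : r ∈ Subgroup.centralizer ({φ (p * d)} : Set G) := by
      refine Subgroup.mem_centralizer_singleton_iff.2 ?_
      rw [map_mul]
      have e1 : r * a = a * r⁻¹ := by
        rw [← hi1, ← mul_assoc, ← mul_assoc, haa, one_mul]
      have e2 : r⁻¹ * φ d = φ d * r := by
        rw [← hi2, mul_assoc _ (φ d), hL.sq _ (hT d hd.1), mul_one]
      rw [← mul_assoc, e1, mul_assoc, e2, mul_assoc]
    have h := hzs d hd r hrM
    rw [hainv, hi1] at h
    obtain ⟨s, hs, hss, -⟩ := exists_sqrt (O c) (hodd c hc) hr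
    have key : r⁻¹ * r⁻¹ ∈ O d := by
      refine h.resolve_right fun h' => ?_
      have hodd1 : ∀ (H : Subgroup G), Odd (Nat.card H) → ∀ x ∈ H, Odd (orderOf x) := fun H hH x hx =>
        Odd.of_dvd_nat hH ((Subgroup.orderOf_mk x hx) ▸ orderOf_dvd_natCard _)
      obtain ⟨m, hm⟩ := hodd1 (O c) (hodd c hc) _ (mul_mem (inv_mem hr) (inv_mem hr))
      obtain ⟨l, hl⟩ := hodd1 (O d) (hodd d hd) _ h'
      set u := r⁻¹ * r⁻¹
      set j := φ (p * d)
      have huj : Commute u j := by
        have : Commute r j := Subgroup.mem_centralizer_singleton_iff.1 hrM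
        exact this.inv_left.mul_left this.inv_left
      have hj2 : j * j = 1 := by rw [← map_mul, J_sq ⟨p, hp, d, hd, rfl⟩, map_one]
      have h1 : (u * j) ^ ((2 * l + 1) * (2 * m + 1)) = 1 := by
        rw [pow_mul, ← hl, pow_orderOf_eq_one, one_pow]
      have hu1 : u ^ ((2 * l + 1) * (2 * m + 1)) = 1 := by
        rw [mul_comm, pow_mul, ← hm, pow_orderOf_eq_one, one_pow]
      rw [huj.mul_pow, hu1, one_mul,
        show (2 * l + 1) * (2 * m + 1) = 2 * (2 * m * l + m + l) + 1 by ring, pow_succ, pow_mul, sq,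
        hj2, one_pow, one_mul] at h1
      refine hd.2.1 ?_
      have h' : p * d = 1 := hφ (by rw [map_one]; exact h1)
      rw [eq_inv_of_mul_eq_one_right h', inv_eq T_group.1 hp]
    -- `r` is a power of its square
    obtain ⟨n, hn'⟩ := Subgroup.mem_zpowers_iff.1 hs
    have h1 : r = ((r⁻¹ * r⁻¹)⁻¹) ^ n := by
      rw [← mul_inv_rev, inv_inv, (Commute.refl r).mul_zpow, hn', hss]
    rw [h1]
    exact zpow_mem (inv_mem key) n
  have hdiam : Diam (dperp T p) := by
    obtain ⟨F, _, θ, tp, hB, hM⟩ : ∃ (F : Type) (_ : Field F) (θ : F →+* F)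
        (tp : UModel.Pt (Classical.hermB 6 θ) → X),
        UModel.Space (Classical.hermB 6 θ) ∧ UModel.Model (Classical.hermB 6 θ) (dperp T p) tp := by
      obtain ⟨F, hF, θ, -, hB, hmod⟩ := layer_model T_group T_type
      obtain ⟨tp, hM⟩ := hmod p hp
      exact ⟨F, hF, θ, tp, hB, hM⟩
    exact UModel.diam hB hM
  have hsame : ∀ c ∈ dperp T p, O c = O q := by
    intro c hc
    by_cases hcq : Commute c q
    · exact le_antisymm (hedge c hc q hq hcq) (hedge q hq c hc hcq.symm)
    · obtain ⟨z, hz, hzq⟩ := hdiam c hc q hq hcq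
      have hzc : Commute c z := hz.2.2
      exact le_antisymm ((hedge c hc z hz.1 hzc).trans (hedge z hz.1 q hq hzq))
        ((hedge q hq z hz.1 hzq.symm).trans (hedge z hz.1 c hc hzc.symm))
  have htriv : ∀ r ∈ O q, r = 1 := by
    have hinvall : ∀ c ∈ dperp T p, ∀ r ∈ O q, φ c * r * φ c = r⁻¹ := fun c hc r hr => by
      exact hinvc c hc c hc (Commute.refl c) r (by rw [hsame c hc]; exact hr)
    have habel : ∀ r ∈ O q, ∀ s ∈ O q, Commute r s := by
      intro r hr s hs
      have h := hinva q hq _ (mul_mem hr hs)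
      have e : a * (r * s) * a = (a * r * a) * (a * s * a) := by
        rw [show a * r * a * (a * s * a) = a * r * (a * a) * (s * a) by simp only [mul_assoc], haa,
          mul_one]
        simp only [mul_assoc]
      rw [e, hinva q hq r hr, hinva q hq s hs, ← mul_inv_rev, inv_inj] at h
      exact h.symm
    let K : Subgroup G :=
      { carrier := {g | (∀ r ∈ O q, g * r * g⁻¹ = r) ∨ ∀ r ∈ O q, g * r * g⁻¹ = r⁻¹}
        one_mem' := Or.inl fun r _ => by group
        mul_mem' := fun {g h} hg hh => by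
          have e : ∀ r, g * h * r * (g * h)⁻¹ = g * (h * r * h⁻¹) * g⁻¹ := fun r => by group
          rcases hg with hg | hg <;> rcases hh with hh | hh
          · exact Or.inl fun r hr => by rw [e, hh r hr, hg r hr]
          · exact Or.inr fun r hr => by rw [e, hh r hr, hg _ (inv_mem hr)]
          · exact Or.inr fun r hr => by rw [e, hh r hr, hg r hr]
          · exact Or.inl fun r hr => by rw [e, hh r hr, hg _ (inv_mem hr), inv_inv]
        inv_mem' := fun {g} hg => by
          rcases hg with hg | hg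
          · exact Or.inl fun r hr => by
              conv_lhs => rw [← hg r hr]
              group
          · exact Or.inr fun r hr => by
              have h1 := hg _ (inv_mem hr)
              rw [inv_inv] at h1
              conv_lhs => rw [← h1]
              group }
    have hswap : ∀ g ∈ K, ∀ h ∈ K, ∀ r ∈ O q,
        g * h * r * (g * h)⁻¹ = h * g * r * (h * g)⁻¹ ∧ g * h * r * (g * h)⁻¹ ∈ O q := by
      intro g hg h hh r hr
      have e : ∀ x y : G, x * y * r * (x * y)⁻¹ = x * (y * r * y⁻¹) * x⁻¹ := fun x y => by group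
      rcases hg with hg | hg <;> rcases hh with hh | hh <;>
        simp only [e, hg r hr, hh r hr, hg _ (inv_mem hr), hh _ (inv_mem hr), hr, inv_mem hr, inv_inv,
          and_self]
    have hK : ∀ g ∈ Subgroup.centralizer ({p} : Set X), φ g ∈ K := by
      intro g hg
      rw [centralizer_eq_closure T_group (m22Full T_group T_type) T_type.1 hp] at hg
      refine (Subgroup.closure_le (K.comap φ)).2 (fun c hc => ?_) hg
      refine Or.inr fun r hr => ?_
      rw [hL.inv (hT c hc.1)]
      exact hinvall c hc r hr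
    have hcomm : ∀ g ∈ (⁅Subgroup.centralizer ({p} : Set X), Subgroup.centralizer ({p} : Set X)⁆),
        ∀ r ∈ O q, φ g * r * (φ g)⁻¹ = r := by
      intro g hg
      induction hg using Subgroup.closure_induction with
      | mem g hg =>
        obtain ⟨u, hu, v, hv, rfl⟩ := hg
        intro r hr
        obtain ⟨-, h2⟩ := hswap _ (inv_mem (hK u hu)) _ (inv_mem (hK v hv)) r hr
        obtain ⟨h3, -⟩ := hswap _ (hK u hu) _ (hK v hv) _ h2
        calc φ ⁅u, v⁆ * r * (φ ⁅u, v⁆)⁻¹
            = φ u * φ v * ((φ u)⁻¹ * (φ v)⁻¹ * r * ((φ u)⁻¹ * (φ v)⁻¹)⁻¹) * (φ u * φ v)⁻¹ := by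
              rw [commutatorElement_def, map_mul, map_mul, map_mul, map_inv, map_inv]; group
          _ = _ := by rw [h3]; group
      | one => intro r _; simp
      | mul u v _ _ hu hv =>
        intro r hr
        rw [map_mul, show φ u * φ v * r * (φ u * φ v)⁻¹ = φ u * (φ v * r * (φ v)⁻¹) * (φ u)⁻¹ by group,
          hv r hr, hu r hr]
      | inv u _ hu =>
        intro r hr
        rw [map_inv]
        conv_lhs => rw [← hu r hr]
        group
    intro r hr
    have hpmem : p ∈ Subgroup.centralizer ({p} : Set X) := Subgroup.mem_centralizer_singleton_iff.2 rfl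
    rw [← centralizer_perfect_M22 T_group T_type hp] at hpmem
    have h1 := hcomm p hpmem r hr
    rw [← ha, hainv, hinva q hq r hr] at h1
    obtain ⟨s, hs, hss, -⟩ := exists_sqrt (O q) (hodd q hq) hr
    obtain ⟨n, rfl⟩ := Subgroup.mem_zpowers_iff.1 hs
    rw [← hss, ← (Commute.refl r).mul_zpow]
    conv_lhs => arg 1; arg 1; rw [← h1]
    rw [inv_mul_cancel, one_zpow]
  intro g hg
  have h := hzs q hq g hg
  rw [hainv] at h
  have h' : a * g * a * g⁻¹ = 1 ∨ a * g * a * g⁻¹ * φ (p * q) = 1 := h.imp (htriv _) (htriv _)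
  have hga : g * a * g⁻¹ = a ∨ g * a * g⁻¹ = φ q := by
    rcases h' with h' | h'
    · left
      calc g * a * g⁻¹ = (a * a) * (g * a * g⁻¹) := by rw [haa, one_mul]
        _ = a * (a * g * a * g⁻¹) := by simp only [mul_assoc]
        _ = a := by rw [h', mul_one]
    · right
      have e : g * a * g⁻¹ = a * (φ (p * q))⁻¹ := by
        calc g * a * g⁻¹ = (a * a) * (g * a * g⁻¹) := by rw [haa, one_mul]
          _ = a * (a * g * a * g⁻¹ * φ (p * q)) * (φ (p * q))⁻¹ := by group
          _ = _ := by rw [h', mul_one]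
      rw [e, ← map_inv, ← map_mul, mul_inv_rev, inv_eq T_group.1 hq.1, inv_eq T_group.1 hp,
        ← hq.2.2.eq, ← mul_assoc, mul_self T_group.1 hp, one_mul]
  rcases hga with h1 | h1
  · exact mem_range_of_move hL hφ hT hp hp h1
  · exact mem_range_of_move hL hφ hT hp hq.1 h1

end Cfsg.Agent.M22Cent
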