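import Cfsg.Agent.M22Cent.Local
import Cfsg.Agent.ThreeTrans.UnitaryCounts

/-!
# Pairs of members with a common neighbour
-/

set_option autoImplicit false

open Cfsg Cfsg.Agent.Classical Cfsg.Agent.Classical.Herm Module
open Cfsg.Agent.ThreeTrans

namespace Cfsg.Agent.M22Cent

variable {G : Type*} [Group G] {D : Set G}

/-- The members commuting with a member are closed. -/
theorem Loc.closed (hL : Loc D) {a : G} (ha : a ∈ D) : ClosedSet (dperp D a) := by
  obtain ⟨F, _, θ, -, -, hmod⟩ := hL.model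
  obtain ⟨tp, hM⟩ := hmod a ha
  exact hM.closed

theorem Loc.inv (hL : Loc D) {a : G} (ha : a ∈ D) : a⁻¹ = a :=
  inv_eq_of_mul_eq_one_left (hL.sq a ha)

theorem Loc.conj_mem (hL : Loc D) {a b : G} (ha : a ∈ D) (hb : b ∈ D) : a * b * a ∈ D := by
  have := hL.conj a b hb
  rwa [hL.inv ha] at this

theorem Loc.symm (hL : Loc D) {a b : G} (ha : a ∈ D) (hb : b ∈ dperp D a) : a ∈ dperp D b :=
  ⟨ha, hb.2.1.symm, hb.2.2.symm⟩

/-- Two members that do not commute and have a common neighbour braid. -/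
theorem Loc.cube (hL : Loc D) {a b x : G} (ha : a ∈ D) (hb : b ∈ D) (hx : x ∈ D) (hab : ¬ Commute a b)
    (hxa : Commute x a) (hxb : Commute x b) : (a * b) ^ 3 = 1 ∧ a * b * a = b * a * b := by
  have ha' : a ∈ dperp D x := ⟨ha, fun e => hab (e ▸ hxb), hxa⟩
  have hb' : b ∈ dperp D x := ⟨hb, fun e => hab (e ▸ hxa).symm, hxb⟩
  exact ⟨cube_of_not_commute (hL.closed hx).tri ha' hb' hab,
    braid (hL.closed hx).tri ha' hb' hab⟩

/-- The counts in a layer. -/
theorem Loc.layer [Finite G] (hL : Loc D) {a : G} (ha : a ∈ D) : LayerCounts (dperp D a) := by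
  obtain ⟨F, _, θ, hF, hB, hmod⟩ := hL.model
  obtain ⟨tp, hM⟩ := hmod a ha
  exact UModel.layer_counts hB hM hF

end Cfsg.Agent.M22Cent
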